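import Cfsg.Agent.R2.Spec.FIN.Chk

/-! # S3435, packet FIN: the search, part 1 (helper7) -/

set_option autoImplicit false

namespace Cfsg.Agent.R2.Spec.FIN

theorem r1 : chkR (2 ^ 20) 50 3 1 = true := by decide +kernel
theorem r2 : chkR (2 ^ 20) 50 5 3 = true := by decide +kernel
theorem r3 : chkR (2 ^ 20) 50 11 5 = true := by decide +kernel

end Cfsg.Agent.R2.Spec.FIN
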