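import Cfsg.Agent.R2.Spec.FIN.Chk

/-! # S3435, packet FIN: the search, part 2 (helper7) -/

set_option autoImplicit false

namespace Cfsg.Agent.R2.Spec.FIN

theorem r4 : chkR (2 ^ 20) 50 21 10 = true := by decide +kernel
theorem r5 : chkR (2 ^ 20) 50 41 30 = true := by decide +kernel

end Cfsg.Agent.R2.Spec.FIN
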