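import Cfsg.Agent.R2.Spec.FIN.Bnd
import Cfsg.Agent.R2.Spec.FIN.NumA
import Cfsg.Agent.R2.Spec.FIN.NumB
import Cfsg.Agent.R2.Spec.FIN.NumC
import Cfsg.Agent.R2.Spec.RKS.Clq

/-!
# S3435, packet FIN: the finite search (helper7)

`fin` : five big classes in `L` (`Five t`), `Duel`, `RkFive t'`, the size bound with `C = 2 ^ 20` : `False`.
-/

set_option autoImplicit false

namespace Cfsg.Agent.R2.Spec.FIN

open Cfsg.Agent.H426.LieFam Cfsg.Agent.R2.Spec Cfsg.Agent.R2.Spec.P1 Cfsg.Agent.R2.Spec.E Cfsg.Agent.R2.Spec.F1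

universe u

theorem chkQ_all {q : ℕ} (h3 : 3 ≤ q) (hodd : q % 2 = 1) (hq : q < 8192) : chkQ (2 ^ 20) 50 q = true := by
  have key : ∀ {a b : ℕ}, chkR (2 ^ 20) 50 a b = true → a % 2 = 1 → a ≤ q → q < a + 2 * b →
      chkQ (2 ^ 20) 50 q = true := by
    intro a b h ha h1 h2
    have h4 := chkR_sound (k := (q - a) / 2) h (by omega)
    rwa [show 2 * ((q - a) / 2) + a = q by omega] at h4
  by_cases h1 : q < 5
  · exact key r1 (by norm_num) (by omega) (by omega)
  by_cases h2 : q < 11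
  · exact key r2 (by norm_num) (by omega) (by omega)
  by_cases h4 : q < 21
  · exact key r3 (by norm_num) (by omega) (by omega)
  by_cases h5 : q < 41
  · exact key r4 (by norm_num) (by omega) (by omega)
  by_cases h6 : q < 101
  · exact key r5 (by norm_num) (by omega) (by omega)
  by_cases h7 : q < 801
  · exact key r6 (by norm_num) (by omega) (by omega)
  by_cases h8 : q < 4001
  · exact key r7 (by norm_num) (by omega) (by omega)
  · exact key r8 (by norm_num) (by omega) (by omega)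

/-- **The finite search.** -/
theorem fin {t : Fam} {p f i j : ℕ} {t' : Fam} {v f' i' j' w H : ℕ} {S : Type u} [Group S] [Finite S] (h5 : Five t)
    (hD : Duel t p f i j t' v f' i' j' w H S) (hr : RkFive t') (hs : SizeB (2 ^ 20) t p f f') : False := by
  obtain ⟨hq3, hqodd⟩ := f_q hD.p_prime hD.p_ne hD.f_pos
  have hu : 2 ≤ v ^ f' := hD.v_prime.two_le.trans (Nat.le_self_pow (by have := hD.f'_pos; omega) v)
  obtain ⟨q, hq⟩ : ∃ q, q = p ^ f := ⟨_, rfl⟩
  have hM0 : ttor t (p ^ f) i ≠ 0 := fun h0 => hD.vM (by rw [h0]; exact dvd_zero v)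
  have hH0 : 1 ≤ H := by
    by_contra hcon
    have h0 : H = 0 := by omega
    apply hM0
    rw [hD.eqM, h0, zero_mul]
  have hPe := pow_ex_le hr hD.topi' hu
  have hP0 : 1 ≤ ttor t' (v ^ f') i' := by
    by_contra hcon
    have h0 : ttor t' (v ^ f') i' = 0 := by omega
    rw [h0] at hPe
    have := Nat.one_le_pow (ex t') (v ^ f') (by omega)
    omega
  have hPM : ttor t' (v ^ f') i' ≤ ttor t (p ^ f) i := by
    rw [hD.eqM]
    exact Nat.le_mul_of_pos_left _ hH0
  have hB : (v ^ f') ^ ex t' ≤ 8 * ttor t (p ^ f) i := by omega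
  have hD7 := dimL_ge h5
  have hX : Nat.log2 (p ^ f) * (dimL t - 3) ≤ 50 := by
    refine range_le (f' := f') (M := ttor t (p ^ f) i) (d := dgL t (p ^ f)) hD7.1 (dgL_le h5) hq3
      (ttor_le h5 hD.pair hq3) ?_ hs
    calc 2 ^ (5 * f') = (2 ^ f') ^ 5 := by rw [← pow_mul, mul_comm]
      _ ≤ (v ^ f') ^ 5 := Nat.pow_le_pow_left (Nat.pow_le_pow_left hD.v_prime.two_le _) _
      _ ≤ (v ^ f') ^ ex t' := Nat.pow_le_pow_right (by omega) (ex_ge hr)
      _ ≤ _ := hB
  have hl0 : 1 ≤ Nat.log2 (p ^ f) := by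
    by_contra h0
    have h1 : Nat.log2 (p ^ f) = 0 := by omega
    have h2 : p ^ f < 2 ^ (Nat.log2 (p ^ f) + 1) := Nat.lt_log2_self
    rw [h1] at h2
    omega
  have hl12 : Nat.log2 (p ^ f) ≤ 12 := by
    by_contra h0
    have h1 : 13 * 4 ≤ Nat.log2 (p ^ f) * (dimL t - 3) := Nat.mul_le_mul (by omega) (by omega)
    omega
  have hq13 : p ^ f < 8192 := by
    have h2 : p ^ f < 2 ^ (Nat.log2 (p ^ f) + 1) := Nat.lt_log2_self
    calc p ^ f < 2 ^ (Nat.log2 (p ^ f) + 1) := h2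
      _ ≤ 2 ^ 13 := Nat.pow_le_pow_right (by norm_num) (by omega)
      _ = 8192 := by norm_num
  have hf13 : f ≤ 13 := by
    by_contra h0
    have h1 : 2 ^ 14 ≤ p ^ f := by
      calc 2 ^ 14 ≤ 2 ^ f := Nat.pow_le_pow_right (by norm_num) (by omega)
        _ ≤ p ^ f := Nat.pow_le_pow_left hD.p_prime.two_le _
    norm_num at h1
    omega
  have hk : rk t - 7 < 50 / Nat.log2 (p ^ f) := by
    have h1 : dimL t - 3 ≤ 50 / Nat.log2 (p ^ f) := by
      rw [Nat.le_div_iff_mul_le (by omega), mul_comm]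
      exact hX
    omega
  have hQ := chkQ_all hq3 hqodd hq13
  have hT := chkN_sound h5 (chkQ_sound (t := t) (ppB_sound hD.p_prime hf13) hD7.2.2 hk hQ)
  have hM := chkT_sound hX hD.pair hT
  have hvq : ¬ v ∣ p ^ f := fun hd =>
    hD.vp ((Nat.prime_dvd_prime_iff_eq hD.v_prime hD.p_prime).1 (hD.v_prime.dvd_of_dvd_pow hd))
  have hE := tstE_sound hr hD.topi' (chkM_sound hD.f'_pos (ex_ge hr) hD.v_prime hvq hD.vM hB hs hM)
  change tstP (ttor t (p ^ f) i) (ttor t (p ^ f) j) (p ^ f) i (ng t) (rk t') (v ^ f')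
    (ttor t' (v ^ f') i') = true at hE
  rw [tstP, Bool.or_eq_true, Bool.or_eq_true] at hE
  rcases hE with (h1 | h1) | h1
  · rw [Bool.not_eq_true'] at h1
    have h2 : ttor t (p ^ f) i % ttor t' (v ^ f') i' = 0 := by
      rw [hD.eqM]
      exact Nat.mul_mod_left _ _
    rw [h2] at h1
    exact Bool.noConfusion h1
  · have h2 : ttor t (p ^ f) i / ttor t' (v ^ f') i' = H := by
      rw [hD.eqM]
      exact Nat.mul_div_cancel _ (by omega)
    rw [h2] at h1
    have hi1 : 1 ≤ i := by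
      have hn := hD7.2.2
      have hp := hD.pair
      revert hn hp
      clear * -
      intro hn hp
      cases t with
      | psl n =>
        have h1 : (i = n ∧ j + 1 = n) ∨ (i + 1 = n ∧ j = n) := hp
        change 7 ≤ n at hn
        omega
      | psu n =>
        have h1 : (i = n ∧ j + 1 = n) ∨ (i + 1 = n ∧ j = n) := hp
        change 7 ≤ n at hn
        omega
      | psp n =>
        have h1 : n % 2 = 1 ∧ ((i = n ∧ j = 2 * n) ∨ (i = 2 * n ∧ j = n)) := hp
        change 7 ≤ n at hn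
        omega
      | oodd n =>
        have h1 : n % 2 = 1 ∧ ((i = n ∧ j = 2 * n) ∨ (i = 2 * n ∧ j = n)) := hp
        change 7 ≤ n at hn
        omega
      | oplus n =>
        have h1 : (n % 2 = 1 ∧ ((i = n ∧ j = 2 * (n - 1)) ∨ (i = 2 * (n - 1) ∧ j = n))) ∨
          (n % 2 = 0 ∧ ((i = n - 1 ∧ j = 2 * (n - 1)) ∨ (i = 2 * (n - 1) ∧ j = n - 1))) := hp
        change 7 ≤ n at hn
        omega
      | ominus n =>
        have h1 : (i = 2 * n ∧ j = 2 * (n - 1)) ∨ (i = 2 * (n - 1) ∧ j = 2 * n) := hp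
        change 7 ≤ n at hn
        omega
      | _ => exact hp.elim
    obtain ⟨r, hr1, hr2, hr3⟩ := killH_sound (t := t) (by omega) hi1 h1
    exact hD.copH r hr1 hr3 hr2
  · have hw := Fact.mk hD.w_prime
    obtain ⟨x, hx⟩ := exists_prime_orderOf_dvd_card' (G := S) w hD.wS
    have hwN := hD.ordw x (by rw [hx])
    rw [hx] at hwN
    exact wkill_sound (t := t') (by omega) h1 hD.w_prime hwN hD.j'3 (RKS.le_of_mem hD.memj') hD.clsw'

end Cfsg.Agent.R2.Spec.FIN
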