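import Cfsg.Agent.R2.Spec.FIN.Sound

/-!
# S3435, packet FIN: the range of the search (helper7)

* `pow_ex_le` : `u ^ ex t ≤ 8 * ttor t u i`; `ttor_le` : `ttor t q i ≤ 2 * q ^ dimL t`;
* `range_le` : the size bound with `C = 2 ^ 20` gives `log2 q * (dimL t - 3) ≤ 50`.
-/

set_option autoImplicit false

namespace Cfsg.Agent.R2.Spec.FIN

open Cfsg.Agent.H426.LieFam Cfsg.Agent.R2.Spec Cfsg.Agent.R2.Spec.P1 Cfsg.Agent.R2.Spec.E Cfsg.Agent.R2.Spec.F1

theorem ex_ge {t : Fam} (hr : RkFive t) : 5 ≤ ex t := by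
  cases t with
  | psl m =>
    have h : 9 ≤ m := hr
    change 5 ≤ m - 2
    omega
  | psu m =>
    have h : 9 ≤ m := hr
    change 5 ≤ m - 2
    omega
  | psp m => exact hr
  | oodd m => exact hr
  | oplus m =>
    have h : 7 ≤ m := hr
    change 5 ≤ m - 1
    omega
  | ominus m =>
    have h : 6 ≤ m := hr
    change 5 ≤ m - 1
    omega
  | _ => exact hr.elim

theorem pow_pred_le {u e : ℕ} (hu : 2 ≤ u) (he : 1 ≤ e) : 2 ≤ u ^ e :=
  hu.trans (Nat.le_self_pow (by omega) u)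

theorem aux_sp {u e P g : ℕ} (hu : 2 ≤ u) (he : 1 ≤ e) (hg : g ≤ 4) (h : u ^ e - 1 ≤ P * g) : u ^ e ≤ 8 * P := by
  have h1 := pow_pred_le hu he
  have h2 : P * g ≤ P * 4 := Nat.mul_le_mul_left _ hg
  omega

theorem pow_ex_le {t : Fam} {u i : ℕ} (hr : RkFive t) (hi : top t i) (hu : 2 ≤ u) : u ^ ex t ≤ 8 * ttor t u i := by
  have hg2 : Nat.gcd 2 (u - 1) ≤ 4 := (Nat.gcd_le_left _ (by norm_num)).trans (by norm_num)
  cases t with
  | psl m =>
    have hm : 9 ≤ m := hr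
    have hi' : 3 ≤ i ∧ (i = m ∨ i + 1 = m) := hi
    obtain ⟨h1, h2⟩ := val_psl (n := m) (q := u) (by omega) hu
    obtain ⟨r, rfl⟩ : ∃ r, u = r + 1 := ⟨u - 1, by omega⟩
    rw [Nat.add_sub_cancel] at h1 h2
    have hg : Nat.gcd m r ≤ r := Nat.gcd_le_right _ (by omega)
    have hx : 1 ≤ (r + 1) ^ (m - 2) := Nat.one_le_pow _ _ (by omega)
    have e1 : (r + 1) ^ m = (r + 1) ^ (m - 2) * (r + 1) ^ 2 := by rw [← pow_add]; congr 1; omega
    have e2 : (r + 1) ^ (m - 1) = (r + 1) ^ (m - 2) * (r + 1) := by rw [← pow_succ]; congr 1; omega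
    change (r + 1) ^ (m - 2) ≤ _
    rw [e1] at h1
    rw [e2] at h2
    obtain ⟨x, hxx⟩ : ∃ x, x = (r + 1) ^ (m - 2) := ⟨_, rfl⟩
    rw [← hxx] at h1 h2 hx ⊢
    rcases hi'.2 with rfl | h8
    · obtain ⟨P, hP⟩ : ∃ P, P = ttor (.psl i) (r + 1) i := ⟨_, rfl⟩
      rw [← hP] at h1 ⊢
      have h3 : P * (Nat.gcd i r * r) ≤ P * (r * r) := Nat.mul_le_mul_left _ (Nat.mul_le_mul_right _ hg)
      have h4 : x * (r * r) ≤ x * (r + 1) ^ 2 - 1 := by
        have : x * (r + 1) ^ 2 = x * (r * r) + x * (2 * r) + x := by ring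
        rw [this]
        omega
      have h5 : x * (r * r) ≤ P * (r * r) := h4.trans (h1 ▸ h3)
      have h6 := Nat.le_of_mul_le_mul_right h5 (Nat.mul_pos (by omega) (by omega))
      omega
    · obtain rfl : i = m - 1 := by omega
      obtain ⟨P, hP⟩ : ∃ P, P = ttor (.psl m) (r + 1) (m - 1) := ⟨_, rfl⟩
      rw [← hP] at h2 ⊢
      have h3 : P * Nat.gcd m r ≤ P * r := Nat.mul_le_mul_left _ hg
      have h4 : x * r ≤ x * (r + 1) - 1 := by
        rw [Nat.mul_add]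
        omega
      have h5 : x * r ≤ P * r := h4.trans (h2 ▸ h3)
      have h6 := Nat.le_of_mul_le_mul_right h5 (by omega)
      omega
  | psu m =>
    have hm : 9 ≤ m := hr
    have hi' : 3 ≤ i ∧ (i = m ∨ i + 1 = m) := hi
    obtain ⟨h1, h2⟩ := val_psu (n := m) (q := u) (by omega) hu
    have hg : Nat.gcd m (u + 1) ≤ u + 1 := Nat.gcd_le_right _ (by omega)
    have hx : 1 ≤ u ^ (m - 2) := Nat.one_le_pow _ _ (by omega)
    have e1 : u ^ m = u ^ (m - 2) * u ^ 2 := by rw [← pow_add]; congr 1; omega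
    have e2 : u ^ (m - 1) = u ^ (m - 2) * u := by rw [← pow_succ]; congr 1; omega
    change u ^ (m - 2) ≤ _
    rw [e1] at h1
    rw [e2] at h2
    obtain ⟨x, hxx⟩ : ∃ x, x = u ^ (m - 2) := ⟨_, rfl⟩
    rw [← hxx] at h1 h2 hx ⊢
    rcases hi'.2 with rfl | h8
    · obtain ⟨P, hP⟩ : ∃ P, P = ttor (.psu i) u i := ⟨_, rfl⟩
      rw [← hP] at h1 ⊢
      have h3 : P * (Nat.gcd i (u + 1) * (u + 1)) ≤ P * ((u + 1) * (u + 1)) :=
        Nat.mul_le_mul_left _ (Nat.mul_le_mul_right _ hg)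
      have h4 : x * u ^ 2 - 1 ≤ P * ((u + 1) * (u + 1)) := by
        refine le_trans ?_ h3
        rw [h1]
        split_ifs <;> omega
      have h5 : x * ((u + 1) * (u + 1)) ≤ 8 * P * ((u + 1) * (u + 1)) := by
        have h6 : x * ((u + 1) * (u + 1)) + 8 ≤ 8 * (x * u ^ 2) := by
          obtain ⟨s, rfl⟩ : ∃ s, u = s + 2 := ⟨u - 2, by omega⟩
          obtain ⟨y, hy⟩ : ∃ y, x = y + 1 := ⟨x - 1, by omega⟩
          rw [hy]
          ring_nf
          nlinarith [Nat.zero_le (s * y), Nat.zero_le (s * s * y)]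
        have h7 : 8 * P * ((u + 1) * (u + 1)) = 8 * (P * ((u + 1) * (u + 1))) := by ring
        rw [h7]
        omega
      exact Nat.le_of_mul_le_mul_right h5 (Nat.mul_pos (by omega) (by omega))
    · obtain rfl : i = m - 1 := by omega
      obtain ⟨P, hP⟩ : ∃ P, P = ttor (.psu m) u (m - 1) := ⟨_, rfl⟩
      rw [← hP] at h2 ⊢
      have h3 : P * Nat.gcd m (u + 1) ≤ P * (u + 1) := Nat.mul_le_mul_left _ hg
      have h4 : x * u - 1 ≤ P * (u + 1) := by
        refine le_trans ?_ h3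
        rw [h2]
        split_ifs <;> omega
      have h5 : x * (u + 1) ≤ 8 * P * (u + 1) := by
        have h6 : x * (u + 1) + 8 ≤ 8 * (x * u) := by
          obtain ⟨s, rfl⟩ : ∃ s, u = s + 2 := ⟨u - 2, by omega⟩
          obtain ⟨y, hy⟩ : ∃ y, x = y + 1 := ⟨x - 1, by omega⟩
          rw [hy]
          ring_nf
          nlinarith [Nat.zero_le (s * y)]
        have h7 : 8 * P * (u + 1) = 8 * (P * (u + 1)) := by ring
        rw [h7]
        omega
      exact Nat.le_of_mul_le_mul_right h5 (by omega)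
  | psp m =>
    have hm : 5 ≤ m := hr
    obtain ⟨h1, h2⟩ := val_psp (n := m) (q := u) (by omega) hu
    have hi' : i = 2 * m ∨ (i = m ∧ m % 2 = 1) := hi
    rcases hi' with rfl | ⟨rfl, -⟩
    · exact aux_sp (e := m) hu (by omega) hg2 (by omega)
    · exact aux_sp (e := i) hu (by omega) hg2 (by omega)
  | oodd m =>
    have hm : 5 ≤ m := hr
    obtain ⟨h1, h2⟩ := val_psp (n := m) (q := u) (by omega) hu
    have hi' : i = 2 * m ∨ (i = m ∧ m % 2 = 1) := hi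
    rw [ttor_oodd]
    rcases hi' with rfl | ⟨rfl, -⟩
    · exact aux_sp (e := m) hu (by omega) hg2 (by omega)
    · exact aux_sp (e := i) hu (by omega) hg2 (by omega)
  | oplus m =>
    have hm : 7 ≤ m := hr
    have hi' : (i = m ∧ m % 2 = 1) ∨ i = 2 * (m - 1) ∨ (i = m - 1 ∧ m % 2 = 0) := hi
    have hg4 : Nat.gcd 4 (u ^ m - 1) ≤ 4 := Nat.gcd_le_left _ (by norm_num)
    have e1 : u ^ m = u ^ (m - 1) * u := by rw [← pow_succ]; congr 1; omega
    have e3 := pow_pred_le (e := m - 1) hu (by omega)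
    have e2 : u ^ (m - 1) * 2 ≤ u ^ (m - 1) * u := Nat.mul_le_mul_left _ hu
    change u ^ (m - 1) ≤ _
    rcases Nat.mod_two_eq_zero_or_one m with h0 | h0
    · obtain ⟨h1, h2⟩ := val_oplus_even (n := m) (q := u) (by omega) h0 hu
      rcases hi' with ⟨-, h8⟩ | rfl | ⟨rfl, h8⟩
      · omega
      · exact aux_sp (e := m - 1) hu (by omega) hg2 (by omega)
      · exact aux_sp (e := m - 1) hu (by omega) hg2 (by omega)
    · obtain ⟨h1, h2⟩ := val_oplus_odd (n := m) (q := u) (by omega) h0 hu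
      rcases hi' with ⟨rfl, h8⟩ | rfl | ⟨rfl, h8⟩
      · exact aux_sp (e := i - 1) hu (by omega) hg4 (by omega)
      · refine aux_sp (e := m - 1) hu (by omega) hg4 ?_
        rw [h2]
        calc u ^ (m - 1) - 1 ≤ (u ^ (m - 1) + 1) * 1 := by omega
          _ ≤ (u ^ (m - 1) + 1) * (u + 1) := Nat.mul_le_mul_left _ (by omega)
      · omega
  | ominus m =>
    have hm : 6 ≤ m := hr
    have hi' : i = 2 * m ∨ i = 2 * (m - 1) ∨ (i = m - 1 ∧ m % 2 = 0) := hi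
    have hg4 : Nat.gcd 4 (u ^ m + 1) ≤ 4 := Nat.gcd_le_left _ (by norm_num)
    have e1 : u ^ m = u ^ (m - 1) * u := by rw [← pow_succ]; congr 1; omega
    have e2 : u ^ (m - 1) * 2 ≤ u ^ (m - 1) * u := Nat.mul_le_mul_left _ hu
    obtain ⟨h1, h2, h3⟩ := val_ominus (n := m) (q := u) (by omega) hu
    change u ^ (m - 1) ≤ _
    rcases hi' with rfl | rfl | ⟨rfl, h8⟩
    · exact aux_sp (e := m - 1) hu (by omega) hg4 (by omega)
    · refine aux_sp (e := m - 1) hu (by omega) hg4 ?_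
      rw [h2]
      calc u ^ (m - 1) - 1 ≤ (u ^ (m - 1) + 1) * 1 := by omega
        _ ≤ (u ^ (m - 1) + 1) * (u - 1) := Nat.mul_le_mul_left _ (by omega)
    · refine aux_sp (e := m - 1) hu (by omega) hg4 ?_
      rw [h3]
      calc u ^ (m - 1) - 1 ≤ (u ^ (m - 1) - 1) * 1 := by omega
        _ ≤ (u ^ (m - 1) - 1) * (u + 1) := Nat.mul_le_mul_left _ (by omega)
  | _ => exact hr.elim

/-- a quotient by a positive number -/
theorem le_of_mul_pos {P g x : ℕ} (hg : 0 < g) (h : P * g = x) : P ≤ x := by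
  rw [← h]
  exact Nat.le_mul_of_pos_right _ hg

/-- the upper bound of the isolated numbers of `L` -/
theorem ttor_le {t : Fam} {q i j : ℕ} (h5 : Five t) (hp : PairOK t i j) (hq : 3 ≤ q) :
    ttor t q i ≤ 2 * q ^ dimL t := by
  have hg2 : 0 < Nat.gcd 2 (q - 1) := Nat.gcd_pos_of_pos_left _ (by norm_num)
  cases t with
  | psl n =>
    have hn : 9 ≤ n := h5
    have hp' : (i = n ∧ j + 1 = n) ∨ (i + 1 = n ∧ j = n) := hp
    obtain ⟨h1, h2⟩ := val_psl (n := n) (q := q) (by omega) (by omega)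
    have e1 : q ^ n = q ^ (n - 1) * q := by rw [← pow_succ]; congr 1; omega
    have hg : 0 < Nat.gcd n (q - 1) := Nat.gcd_pos_of_pos_left _ (by omega)
    have hx := Nat.one_le_pow (n - 1) q (by omega)
    change _ ≤ 2 * q ^ (n - 1)
    rcases hp' with ⟨rfl, -⟩ | ⟨h8, -⟩
    · obtain ⟨r, rfl⟩ : ∃ r, q = r + 1 := ⟨q - 1, by omega⟩
      rw [Nat.add_sub_cancel] at h1 hg
      have h3 : ttor (.psl i) (r + 1) i * r ≤ 2 * (r + 1) ^ (i - 1) * r := by
        calc ttor (.psl i) (r + 1) i * r = ttor (.psl i) (r + 1) i * (1 * r) := by rw [one_mul]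
          _ ≤ ttor (.psl i) (r + 1) i * (Nat.gcd i r * r) := Nat.mul_le_mul_left _ (Nat.mul_le_mul_right _ hg)
          _ = (r + 1) ^ i - 1 := h1
          _ ≤ (r + 1) ^ (i - 1) * (r + 1) := by rw [e1]; omega
          _ = (r + 1) ^ (i - 1) * r + (r + 1) ^ (i - 1) := by ring
          _ ≤ (r + 1) ^ (i - 1) * r + (r + 1) ^ (i - 1) * r := by
              apply Nat.add_le_add_left
              exact Nat.le_mul_of_pos_right _ (by omega)
          _ = 2 * (r + 1) ^ (i - 1) * r := by ring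
      exact Nat.le_of_mul_le_mul_right h3 (by omega)
    · obtain rfl : i = n - 1 := by omega
      have := le_of_mul_pos hg h2
      omega
  | psu n =>
    have hn : 9 ≤ n := h5
    have hp' : (i = n ∧ j + 1 = n) ∨ (i + 1 = n ∧ j = n) := hp
    obtain ⟨h1, h2⟩ := val_psu (n := n) (q := q) (by omega) (by omega)
    have e1 : q ^ n = q ^ (n - 1) * q := by rw [← pow_succ]; congr 1; omega
    have hg : 0 < Nat.gcd n (q + 1) := Nat.gcd_pos_of_pos_left _ (by omega)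
    have hx := Nat.one_le_pow (n - 1) q (by omega)
    change _ ≤ 2 * q ^ (n - 1)
    rcases hp' with ⟨rfl, -⟩ | ⟨h8, -⟩
    · have h3 : ttor (.psu i) q i * (q + 1) ≤ 2 * q ^ (i - 1) * (q + 1) := by
        calc ttor (.psu i) q i * (q + 1) = ttor (.psu i) q i * (1 * (q + 1)) := by rw [one_mul]
          _ ≤ ttor (.psu i) q i * (Nat.gcd i (q + 1) * (q + 1)) :=
            Nat.mul_le_mul_left _ (Nat.mul_le_mul_right _ hg)
          _ ≤ q ^ (i - 1) * q + 1 := by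
              rw [h1, e1]
              split_ifs <;> omega
          _ ≤ 2 * q ^ (i - 1) * (q + 1) := by nlinarith
      exact Nat.le_of_mul_le_mul_right h3 (by omega)
    · obtain rfl : i = n - 1 := by omega
      have h3 := le_of_mul_pos hg h2
      split_ifs at h3 <;> omega
  | psp n =>
    have hn : 7 ≤ n := h5
    obtain ⟨-, hp'⟩ : n % 2 = 1 ∧ ((i = n ∧ j = 2 * n) ∨ (i = 2 * n ∧ j = n)) := hp
    obtain ⟨h1, h2⟩ := val_psp (n := n) (q := q) (by omega) (by omega)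
    have hx := Nat.one_le_pow n q (by omega)
    change _ ≤ 2 * q ^ n
    rcases hp' with ⟨rfl, -⟩ | ⟨rfl, -⟩
    · have := le_of_mul_pos hg2 h2
      omega
    · have := le_of_mul_pos hg2 h1
      omega
  | oodd n =>
    have hn : 7 ≤ n := h5
    obtain ⟨-, hp'⟩ : n % 2 = 1 ∧ ((i = n ∧ j = 2 * n) ∨ (i = 2 * n ∧ j = n)) := hp
    obtain ⟨h1, h2⟩ := val_psp (n := n) (q := q) (by omega) (by omega)
    have hx := Nat.one_le_pow n q (by omega)
    rw [ttor_oodd]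
    change _ ≤ 2 * q ^ n
    rcases hp' with ⟨rfl, -⟩ | ⟨rfl, -⟩
    · have := le_of_mul_pos hg2 h2
      omega
    · have := le_of_mul_pos hg2 h1
      omega
  | oplus n =>
    have hn : 7 ≤ n := h5
    have hp' : (n % 2 = 1 ∧ ((i = n ∧ j = 2 * (n - 1)) ∨ (i = 2 * (n - 1) ∧ j = n))) ∨
      (n % 2 = 0 ∧ ((i = n - 1 ∧ j = 2 * (n - 1)) ∨ (i = 2 * (n - 1) ∧ j = n - 1))) := hp
    have hg4 : 0 < Nat.gcd 4 (q ^ n - 1) := Nat.gcd_pos_of_pos_left _ (by norm_num)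
    have hx := Nat.one_le_pow (n - 1) q (by omega)
    have e1 : q ^ n = q ^ (n - 1) * q := by rw [← pow_succ]; congr 1; omega
    rcases hp' with ⟨h0, hp'⟩ | ⟨h0, hp'⟩
    · obtain ⟨h1, h2⟩ := val_oplus_odd (n := n) (q := q) (by omega) h0 (by omega)
      have hD : dimL (.oplus n) = n := by
        rw [dimL, if_neg (by omega)]
      rw [hD]
      rcases hp' with ⟨rfl, -⟩ | ⟨rfl, -⟩
      · have := le_of_mul_pos hg4 h1
        omega
      · have h3 := le_of_mul_pos hg4 h2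
        have h4 : 9 ≤ q ^ (n - 1) := by
          calc 9 = 3 ^ 2 := by norm_num
            _ ≤ q ^ 2 := Nat.pow_le_pow_left hq 2
            _ ≤ q ^ (n - 1) := Nat.pow_le_pow_right (by omega) (by omega)
        rw [e1]
        nlinarith
    · obtain ⟨h1, h2⟩ := val_oplus_even (n := n) (q := q) (by omega) h0 (by omega)
      have hD : dimL (.oplus n) = n - 1 := by
        rw [dimL, if_pos h0]
      rw [hD]
      rcases hp' with ⟨rfl, -⟩ | ⟨rfl, -⟩
      · have := le_of_mul_pos hg2 h2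
        omega
      · have := le_of_mul_pos hg2 h1
        omega
  | ominus n =>
    have hn : 7 ≤ n := h5
    have hp' : (i = 2 * n ∧ j = 2 * (n - 1)) ∨ (i = 2 * (n - 1) ∧ j = 2 * n) := hp
    have hg4 : 0 < Nat.gcd 4 (q ^ n + 1) := Nat.gcd_pos_of_pos_left _ (by norm_num)
    have hx := Nat.one_le_pow (n - 1) q (by omega)
    have e1 : q ^ n = q ^ (n - 1) * q := by rw [← pow_succ]; congr 1; omega
    obtain ⟨h1, h2, -⟩ := val_ominus (n := n) (q := q) (by omega) (by omega)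
    change _ ≤ 2 * q ^ n
    rcases hp' with ⟨rfl, -⟩ | ⟨rfl, -⟩
    · have := le_of_mul_pos hg4 h1
      have hy := Nat.one_le_pow n q (by omega)
      omega
    · have h3 := le_of_mul_pos hg4 h2
      obtain ⟨r, rfl⟩ : ∃ r, q = r + 1 := ⟨q - 1, by omega⟩
      rw [Nat.add_sub_cancel] at h3
      rw [e1]
      nlinarith
  | _ => exact h5.elim

/-- the diagonal number -/
theorem dgL_le {t : Fam} {q : ℕ} (h5 : Five t) : dgL t q ≤ dimL t + 1 := by
  cases t with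
  | psl n =>
    have hn : 9 ≤ n := h5
    change Nat.gcd n (q - 1) ≤ n - 1 + 1
    have := Nat.gcd_le_left (n := q - 1) (m := n) (by omega)
    omega
  | psu n =>
    have hn : 9 ≤ n := h5
    change Nat.gcd n (q + 1) ≤ n - 1 + 1
    have := Nat.gcd_le_left (n := q + 1) (m := n) (by omega)
    omega
  | _ => exact Nat.le_add_left 1 _

theorem dimL_ge {t : Fam} (h5 : Five t) : 7 ≤ dimL t ∧ rk t ≤ dimL t + 1 ∧ 7 ≤ rk t := by
  cases t with
  | psl n =>
    have hn : 9 ≤ n := h5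
    change 7 ≤ n - 1 ∧ n ≤ n - 1 + 1 ∧ 7 ≤ n
    omega
  | psu n =>
    have hn : 9 ≤ n := h5
    change 7 ≤ n - 1 ∧ n ≤ n - 1 + 1 ∧ 7 ≤ n
    omega
  | psp n =>
    have hn : 7 ≤ n := h5
    change 7 ≤ n ∧ n ≤ n + 1 ∧ 7 ≤ n
    omega
  | oodd n =>
    have hn : 7 ≤ n := h5
    change 7 ≤ n ∧ n ≤ n + 1 ∧ 7 ≤ n
    omega
  | oplus n =>
    have hn : 7 ≤ n := h5
    change 7 ≤ dimL (.oplus n) ∧ n ≤ dimL (.oplus n) + 1 ∧ 7 ≤ n
    rw [dimL]
    split_ifs <;> omega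
  | ominus n =>
    have hn : 7 ≤ n := h5
    change 7 ≤ n ∧ n ≤ n + 1 ∧ 7 ≤ n
    omega
  | _ => exact h5.elim

theorem big_pow {X : ℕ} (h : 51 ≤ X) : 128 * 2 ^ 20 * X ^ 5 < 27 * 2 ^ X := by
  induction X, h using Nat.le_induction with
  | base => norm_num
  | succ X hX ih =>
    have h1 : (X + 1) ^ 5 ≤ 2 * X ^ 5 := by
      obtain ⟨y, rfl⟩ : ∃ y, X = y + 51 := ⟨X - 51, by omega⟩
      ring_nf
      nlinarith [Nat.zero_le (y ^ 5), Nat.zero_le (y ^ 4), Nat.zero_le (y ^ 3), Nat.zero_le (y ^ 2)]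
    rw [pow_succ 2 X]
    omega

/-- **The range of the search.** -/
theorem range_le {D d q f' M : ℕ} (hD : 7 ≤ D) (hd : d ≤ D + 1) (hq : 3 ≤ q) (hM : M ≤ 2 * q ^ D)
    (hf : 2 ^ (5 * f') ≤ 8 * M) (hs : q ^ D ≤ 2 ^ 20 * d * (f' ^ 4 * (q + 1) ^ 3)) :
    Nat.log2 q * (D - 3) ≤ 50 := by
  by_contra hcon
  obtain ⟨l, hl⟩ : ∃ l, l = Nat.log2 q := ⟨_, rfl⟩
  rw [← hl] at hcon
  have hl1 : 2 ^ l ≤ q := by rw [hl]; exact Nat.log2_self_le (by omega)
  have hl2 : q < 2 ^ (l + 1) := by rw [hl]; exact Nat.lt_log2_self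
  have hl0 : 1 ≤ l := by
    by_contra h0
    have : l = 0 := by omega
    rw [this] at hl2
    omega
  obtain ⟨X, hX⟩ : ∃ X, X = l * (D - 3) := ⟨_, rfl⟩
  rw [← hX] at hcon
  -- `f' ≤ X`
  have h1 : 2 ^ (5 * f') < 2 ^ (4 + D * (l + 1)) := by
    calc 2 ^ (5 * f') ≤ 8 * M := hf
      _ ≤ 16 * q ^ D := by omega
      _ < 16 * (2 ^ (l + 1)) ^ D := by
          apply Nat.mul_lt_mul_of_pos_left _ (by norm_num)
          exact Nat.pow_lt_pow_left hl2 (by omega)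
      _ = 2 ^ (4 + D * (l + 1)) := by rw [← pow_mul, pow_add, mul_comm D]; norm_num
  have h2 : 5 * f' < 4 + D * (l + 1) := (Nat.pow_lt_pow_iff_right (by norm_num)).1 h1
  have h3 : 4 * (D * (l + 1)) ≤ 14 * X := by
    rw [hX]
    calc 4 * (D * (l + 1)) = (4 * D) * (l + 1) := by ring
      _ ≤ (7 * (D - 3)) * (2 * l) := Nat.mul_le_mul (by omega) (by omega)
      _ = 14 * (l * (D - 3)) := by ring
  have h4 : f' ≤ X := by omega
  have h5 : D + 1 ≤ 2 * X := by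
    rw [hX]
    calc D + 1 ≤ 2 * (1 * (D - 3)) := by omega
      _ ≤ 2 * (l * (D - 3)) := Nat.mul_le_mul_left _ (Nat.mul_le_mul_right _ hl0)
  have h6 : 2 ^ X ≤ q ^ (D - 3) := by
    rw [hX, pow_mul]
    exact Nat.pow_le_pow_left hl1 _
  have h7 : 27 * (q + 1) ^ 3 ≤ 64 * q ^ 3 := by
    have h8 : 3 * (q + 1) ≤ 4 * q := by omega
    calc 27 * (q + 1) ^ 3 = (3 * (q + 1)) ^ 3 := by ring
      _ ≤ (4 * q) ^ 3 := Nat.pow_le_pow_left h8 3
      _ = 64 * q ^ 3 := by ring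
  have h8 : q ^ D = q ^ (D - 3) * q ^ 3 := by rw [← pow_add]; congr 1; omega
  have h9 : 27 * q ^ (D - 3) * q ^ 3 ≤ (2 ^ 20 * d * f' ^ 4 * 64) * q ^ 3 := by
    calc 27 * q ^ (D - 3) * q ^ 3 = 27 * q ^ D := by rw [h8]; ring
      _ ≤ 27 * (2 ^ 20 * d * (f' ^ 4 * (q + 1) ^ 3)) := Nat.mul_le_mul_left _ hs
      _ = (2 ^ 20 * d * f' ^ 4) * (27 * (q + 1) ^ 3) := by ring
      _ ≤ (2 ^ 20 * d * f' ^ 4) * (64 * q ^ 3) := Nat.mul_le_mul_left _ h7
      _ = (2 ^ 20 * d * f' ^ 4 * 64) * q ^ 3 := by ring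
  have h10 := Nat.le_of_mul_le_mul_right h9 (Nat.pow_pos (by omega))
  have h11 : 2 ^ 20 * d * f' ^ 4 * 64 ≤ 128 * 2 ^ 20 * X ^ 5 := by
    calc 2 ^ 20 * d * f' ^ 4 * 64 = 64 * 2 ^ 20 * (d * f' ^ 4) := by ring
      _ ≤ 64 * 2 ^ 20 * ((2 * X) * X ^ 4) :=
        Nat.mul_le_mul_left _ (Nat.mul_le_mul (by omega) (Nat.pow_le_pow_left h4 4))
      _ = 128 * 2 ^ 20 * X ^ 5 := by ring
  have h12 := big_pow (X := X) (by omega)
  have h13 : 27 * 2 ^ X ≤ 27 * q ^ (D - 3) := Nat.mul_le_mul_left _ h6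
  omega

end Cfsg.Agent.R2.Spec.FIN
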