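import Cfsg.Agent.R2.Spec.E.Stm
import Cfsg.Agent.R2.Spec.FIN.Loop

/-!
# S3435, packet FIN: the search (helper7)

`F q = true` : for all classical groups `L` over the field with `q` elements, rank in the range of the size bound
(`C = 2 ^ 20`), there is no isolated number `P = ttor t' u i'` of a group `S` with five classes dividing an isolated
number `M` of `L` such that `M / P` is prime to the class `i`.
-/

set_option autoImplicit false

namespace Cfsg.Agent.R2.Spec.FIN

open Cfsg.Agent.H426.LieFam Cfsg.Agent.R2.Spec Cfsg.Agent.R2.Spec.P1 Cfsg.Agent.R2.Spec.E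

/-- `|s ^ k - 1|` for `s = q`, `s = - q` -/
def ab (neg : Bool) (q k : ℕ) : ℕ := bif neg && Nat.beq (k % 2) 1 then q ^ k + 1 else q ^ k - 1

/-- remove the common factors with `B` -/
def strip (B : ℕ) : ℕ → ℕ → ℕ
  | 0, x => x
  | k + 1, x => strip B k (x / Nat.gcd x B)

/-- product of `|s ^ d - 1|`, `d` a proper divisor of `i` -/
def Bf (neg : Bool) (q i : ℕ) : ℕ → ℕ
  | 0 => 1
  | d + 1 => Bf neg q i d * (bif Nat.blt (d + 1) i && Nat.beq (i % (d + 1)) 0 then ab neg q (d + 1) else 1)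

/-- `H` is divisible by a prime of the class `i` -/
def killH (neg : Bool) (q i H : ℕ) : Bool :=
  (fun y => Nat.blt 1 y && Nat.beq (H % y) 0 && Nat.beq (ab neg q i % y) 0 && Nat.beq (Nat.gcd y (Bf neg q i i)) 1)
    (strip (Bf neg q i i) 12 (Nat.gcd H (ab neg q i)))

/-- `N` is prime to all classes of `S` -/
noncomputable def wkill (N m u : ℕ) : Bool :=
  allTo (fun j => Nat.beq (Nat.gcd N (u ^ j - 1)) 1 && Nat.beq (Nat.gcd N (u ^ j + 1)) 1 || Nat.blt j 3) (2 * m + 1)

/-- the test for one number `P` -/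
noncomputable def tstP (M N q i : ℕ) (neg : Bool) (m u P : ℕ) : Bool :=
  !(Nat.beq (M % P) 0) || killH neg q i (M / P) || wkill N m u

/-- the test for the exponent `e` and the number `u` -/
noncomputable def tstE (T : ℕ → ℕ → Bool) (e u : ℕ) : Bool :=
  (T e (ttor (.psp e) u (2 * e)) && (Nat.beq (e % 2) 0 || T e (ttor (.psp e) u e))) &&
  ((T (e + 1) (ttor (.ominus (e + 1)) u (2 * (e + 1))) && T (e + 1) (ttor (.ominus (e + 1)) u (2 * e))) &&
    (Nat.beq (e % 2) 0 || T (e + 1) (ttor (.ominus (e + 1)) u e))) &&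
  (Nat.blt e 6 || (T (e + 1) (ttor (.oplus (e + 1)) u (2 * e)) &&
    (bif Nat.beq (e % 2) 0 then T (e + 1) (ttor (.oplus (e + 1)) u (e + 1))
      else T (e + 1) (ttor (.oplus (e + 1)) u e)))) &&
  (Nat.blt e 7 || ((T (e + 2) (ttor (.psl (e + 2)) u (e + 2)) && T (e + 2) (ttor (.psl (e + 2)) u (e + 1))) &&
    (T (e + 2) (ttor (.psu (e + 2)) u (e + 2)) && T (e + 2) (ttor (.psu (e + 2)) u (e + 1)))))

/-- not a prime, checked with a few divisors -/
def npB (v : ℕ) : Bool :=
  (Nat.beq (v % 2) 0 && !(Nat.beq v 2)) || (Nat.beq (v % 3) 0 && !(Nat.beq v 3)) ||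
  (Nat.beq (v % 5) 0 && !(Nat.beq v 5)) || (Nat.beq (v % 7) 0 && !(Nat.beq v 7)) ||
  (Nat.beq (v % 11) 0 && !(Nat.beq v 11)) || (Nat.beq (v % 13) 0 && !(Nat.beq v 13))

/-- the test for `v` -/
noncomputable def tstV (M N q i : ℕ) (neg : Bool) (f' e v : ℕ) : Bool :=
  npB v || Nat.beq (q % v) 0 || Nat.beq (M % v) 0 ||
    force (v ^ f') fun u => tstE (fun m P => force P fun P => tstP M N q i neg m u P) e u

/-- the loop over `e` -/
noncomputable def tstF (M N q i : ℕ) (neg : Bool) (f' : ℕ) : Bool :=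
  allTo (fun k => force (k + 5) fun e => loopV (tstV M N q i neg f' e) (f' * e) (8 * M) 5000 2)
    (Nat.log2 (8 * M) / f' - 4)

/-- the size bound -/
def szB (C q D d f' : ℕ) : Bool := Nat.ble (q ^ D) (C * d * (f' ^ 4 * (q + 1) ^ 3))

/-- the test for `M` -/
noncomputable def chkM (C M N q D d i : ℕ) (neg : Bool) : Bool :=
  force (Nat.log2 (8 * M) / 5) fun fm => !(szB C q D d fm) ||
    allTo (fun k => force (k + 1) fun f' => !(szB C q D d f') || tstF M N q i neg f') fm

/-- unitary -/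
def ng : Fam → Bool
  | .psu _ => true
  | _ => false

/-- the pairs of isolated classes -/
def pairsL : Fam → List (ℕ × ℕ)
  | .psl n => [(n, n - 1), (n - 1, n)]
  | .psu n => [(n, n - 1), (n - 1, n)]
  | .psp n => bif Nat.beq (n % 2) 1 then [(n, 2 * n), (2 * n, n)] else []
  | .oodd n => bif Nat.beq (n % 2) 1 then [(n, 2 * n), (2 * n, n)] else []
  | .oplus n => bif Nat.beq (n % 2) 1 then [(n, 2 * (n - 1)), (2 * (n - 1), n)]
      else [(n - 1, 2 * (n - 1)), (2 * (n - 1), n - 1)]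
  | .ominus n => [(2 * n, 2 * (n - 1)), (2 * (n - 1), 2 * n)]
  | _ => []

/-- the test for one family -/
noncomputable def chkT (C X : ℕ) (t : Fam) (q : ℕ) : Bool :=
  Nat.blt X (Nat.log2 q * (dimL t - 3)) || (pairsL t).all fun x =>
    force x.1 fun i => force (ttor t q i) fun M => force (ttor t q x.2) fun N => force (dimL t) fun D =>
      force (dgL t q) fun d => chkM C M N q D d i (ng t)

noncomputable def chkN (C X q n : ℕ) : Bool :=
  ((Nat.blt n 9 || (chkT C X (.psl n) q && chkT C X (.psu n) q)) && chkT C X (.psp n) q) &&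
    (chkT C X (.oplus n) q && chkT C X (.ominus n) q)

/-- a power of a prime, checked for a few primes -/
def ppB (q : ℕ) : Bool :=
  (!(Nat.beq (q % 3) 0) || Nat.beq (3 ^ 13 % q) 0) && (!(Nat.beq (q % 5) 0) || Nat.beq (5 ^ 13 % q) 0) &&
  (!(Nat.beq (q % 7) 0) || Nat.beq (7 ^ 13 % q) 0) && (!(Nat.beq (q % 11) 0) || Nat.beq (11 ^ 13 % q) 0) &&
  (!(Nat.beq (q % 13) 0) || Nat.beq (13 ^ 13 % q) 0) && (!(Nat.beq (q % 17) 0) || Nat.beq (17 ^ 13 % q) 0) &&
  (!(Nat.beq (q % 19) 0) || Nat.beq (19 ^ 13 % q) 0) && (!(Nat.beq (q % 23) 0) || Nat.beq (23 ^ 13 % q) 0)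

/-- the test for `q` -/
noncomputable def chkQ (C X q : ℕ) : Bool :=
  !(ppB q) || allTo (fun k => force (k + 7) fun n => chkN C X q n) (X / Nat.log2 q)

/-- the test for the odd numbers `2 k + a`, `k < b` -/
noncomputable def chkR (C X a b : ℕ) : Bool := allTo (fun k => force (2 * k + a) fun q => chkQ C X q) b

end Cfsg.Agent.R2.Spec.FIN
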