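import Cfsg.Agent.R2.Spec.FIN.Range4

/-!
# S3435, packet FIN, small ranks: the search for `S = PSp_6(u)`, `Omega_7(u)`, `POmega^+_8(u)` (helper7)
-/

set_option autoImplicit false

namespace Cfsg.Agent.R2.Spec.FIN

open Cfsg.Agent.H426.LieFam Cfsg.Agent.R2.Spec Cfsg.Agent.R2.Spec.P1 Cfsg.Agent.R2.Spec.E Cfsg.Agent.R2.Spec.F1

/-- the test for `v` -/
noncomputable def tstV3 (M N q i : ℕ) (neg : Bool) (f' v : ℕ) : Bool :=
  npB v || Nat.beq (q % v) 0 || Nat.beq (M % v) 0 ||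
    force (v ^ f') fun u => force (u ^ 3) fun x =>
      (Nat.blt 0 ((2 * M) % (x + 1)) || tstP M N q i neg 4 u (ttor (.psp 3) u 6)) &&
      (Nat.blt 0 ((2 * M) % (x - 1)) || tstP M N q i neg 4 u (ttor (.psp 3) u 3))

/-- the test for `M` -/
noncomputable def chkM3 (C M N q D d i : ℕ) (neg : Bool) : Bool :=
  force (Nat.log2 (8 * M) / 3) fun fm => !(szB C q D d fm) ||
    allTo (fun k => force (k + 1) fun f' => !(szB C q D d f') ||
      loopV (tstV3 M N q i neg f') (3 * f') (8 * M) 50000 2) fm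

/-- the test for one family -/
noncomputable def chkT3 (C : ℕ) (t : Fam) (q : ℕ) : Bool :=
  !(ppB q) || (pairsL t).all fun x =>
    force x.1 fun i => force (ttor t q i) fun M => force (ttor t q x.2) fun N => force (dimL t) fun D =>
      force (dgL t q) fun d => chkM3 C M N q D d i (ng t)

/-- the test for the odd numbers `2 k + a`, `k < b` -/
noncomputable def chkR3 (C : ℕ) (t : Fam) (a b : ℕ) : Bool :=
  allTo (fun k => force (2 * k + a) fun q => chkT3 C t q) b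

theorem chkM3_sound {C M N q D d i : ℕ} {neg : Bool} {f' v : ℕ} (hf : 1 ≤ f') (hv : v.Prime)
    (hvq : ¬ v ∣ q) (hvM : ¬ v ∣ M) (hB : (v ^ f') ^ 3 ≤ 8 * M)
    (hs : q ^ D ≤ C * d * (f' ^ 4 * (q + 1) ^ 3)) (h : chkM3 C M N q D d i neg = true) :
    (Nat.blt 0 ((2 * M) % ((v ^ f') ^ 3 + 1)) = true ∨
      tstP M N q i neg 4 (v ^ f') (ttor (.psp 3) (v ^ f') 6) = true) ∧
    (Nat.blt 0 ((2 * M) % ((v ^ f') ^ 3 - 1)) = true ∨
      tstP M N q i neg 4 (v ^ f') (ttor (.psp 3) (v ^ f') 3) = true) := by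
  have h1 : f' * 3 ≤ Nat.log2 (8 * M) := by
    apply le_log2_of_pow
    calc 2 ^ (f' * 3) ≤ v ^ (f' * 3) := Nat.pow_le_pow_left hv.two_le _
      _ = (v ^ f') ^ 3 := pow_mul _ _ _
      _ ≤ 8 * M := hB
  have h2 : f' ≤ Nat.log2 (8 * M) / 3 := by
    rw [Nat.le_div_iff_mul_le (by norm_num)]
    exact h1
  have h3 : szB C q D d (Nat.log2 (8 * M) / 3) = true := by
    rw [szB_iff]
    exact hs.trans (Nat.mul_le_mul_left _ (Nat.mul_le_mul_right _ (Nat.pow_le_pow_left h2 4)))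
  rw [chkM3, force_eq, h3, Bool.not_true, Bool.false_or] at h
  have h4 := allTo_sound h (f' - 1) (by omega)
  rw [force_eq, show f' - 1 + 1 = f' by omega, szB_iff.2 hs, Bool.not_true, Bool.false_or] at h4
  have h5 := loopV_sound h4 v hv.two_le (by rw [mul_comm, pow_mul]; exact hB)
  have hne : ∀ {a : ℕ}, ¬ v ∣ a → Nat.beq (a % v) 0 = false := by
    intro a ha
    by_contra hcon
    rw [Bool.not_eq_false, beq_iff] at hcon
    exact ha (Nat.dvd_of_mod_eq_zero hcon)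
  rw [tstV3, npB_sound hv, hne hvq, hne hvM, Bool.false_or, Bool.false_or, Bool.false_or, force_eq, force_eq,
    Bool.and_eq_true, Bool.or_eq_true, Bool.or_eq_true] at h5
  exact h5

theorem chkT3_sound {C : ℕ} {t : Fam} {q i j : ℕ} (hpp : ppB q = true) (hp : PairOK t i j)
    (h : chkT3 C t q = true) : chkM3 C (ttor t q i) (ttor t q j) q (dimL t) (dgL t q) i (ng t) = true := by
  rw [chkT3, hpp, Bool.not_true, Bool.false_or, List.all_eq_true] at h
  have h2 := h (i, j) (mem_pairsL hp)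
  rw [force_eq, force_eq, force_eq, force_eq, force_eq] at h2
  exact h2

theorem odd_range3 {C : ℕ} {t : Fam} {a b q : ℕ} (h : chkR3 C t a b = true) (ha : a % 2 = 1) (hq : q % 2 = 1)
    (h1 : a ≤ q) (h2 : q < a + 2 * b) : chkT3 C t q = true := by
  have h4 := allTo_sound h ((q - a) / 2) (by omega)
  rw [force_eq] at h4
  rwa [show 2 * ((q - a) / 2) + a = q by omega] at h4

theorem chkT3_oodd {C n q : ℕ} : chkT3 C (.oodd n) q = chkT3 C (.psp n) q := rfl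

/-- the groups `S` -/
def S3 (t : Fam) : Prop := t = .psp 3 ∨ t = .oodd 3 ∨ t = .oplus 4

theorem ttor_s3 {t : Fam} {u i : ℕ} (ht : S3 t) (hi : top t i) :
    (i = 6 ∧ ttor t u i = ttor (.psp 3) u 6) ∨ (i = 3 ∧ ttor t u i = ttor (.psp 3) u 3) := by
  rcases ht with rfl | rfl | rfl
  · rcases (show i = 2 * 3 ∨ (i = 3 ∧ 3 % 2 = 1) from hi) with rfl | ⟨rfl, -⟩
    · exact Or.inl ⟨rfl, rfl⟩
    · exact Or.inr ⟨rfl, rfl⟩
  · rcases (show i = 2 * 3 ∨ (i = 3 ∧ 3 % 2 = 1) from hi) with rfl | ⟨rfl, -⟩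
    · exact Or.inl ⟨rfl, rfl⟩
    · exact Or.inr ⟨rfl, rfl⟩
  · rcases (show (i = 4 ∧ 4 % 2 = 1) ∨ i = 2 * (4 - 1) ∨ (i = 4 - 1 ∧ 4 % 2 = 0) from hi) with ⟨-, h⟩ | rfl | ⟨rfl, -⟩
    · omega
    · exact Or.inl ⟨rfl, rfl⟩
    · exact Or.inr ⟨rfl, rfl⟩

theorem rk_s3 {t : Fam} (ht : S3 t) : rk t ≤ 4 := by
  rcases ht with rfl | rfl | rfl
  · change 3 ≤ 4; norm_num
  · change 3 ≤ 4; norm_num
  · exact le_refl 4

/-- **`S = PSp_6(u)`, `Omega_7(u)`, `POmega^+_8(u)`.** -/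
theorem three_gen {C L : ℕ} {t : Fam} {p f i j : ℕ} {t' : Fam} {v f' i' j' w H : ℕ} {S : Type*} [Group S]
    [Finite S] (h5 : 5 ≤ rk t) (hD5 : 5 ≤ dimL t) (hdm : ∀ q, dgL t q ≤ 1)
    (hD : Duel t p f i j t' v f' i' j' w H S) (hr : S3 t')
    (hs : SizeB C t p f f') (hL : 2 ≤ L) (hL18 : L ≤ 18)
    (h0 : (64 * C * 1) * (dimL t * L + dimL t + 3) ^ 4 < (27 * 3 ^ 4) * 2 ^ (L * (dimL t - 3)))
    (hT : ∀ q, 3 ≤ q → q % 2 = 1 → q < 2 ^ L → chkT3 C t q = true) (hmem : j' ≤ 2 * rk t') : False := by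
  obtain ⟨hq3, hqodd⟩ := f_q hD.p_prime hD.p_ne hD.f_pos
  have hu : 2 ≤ v ^ f' := hD.v_prime.two_le.trans (Nat.le_self_pow (by have := hD.f'_pos; omega) v)
  have hM0 : ttor t (p ^ f) i ≠ 0 := fun h0 => hD.vM (by rw [h0]; exact dvd_zero v)
  have hH0 : 1 ≤ H := by
    by_contra hcon
    have h0 : H = 0 := by omega
    apply hM0
    rw [hD.eqM, h0, zero_mul]
  obtain ⟨e1, e2⟩ := val_psp (n := 3) (q := v ^ f') (by norm_num) hu
  have hg4 : Nat.gcd 2 (v ^ f' - 1) ≤ 4 := (Nat.gcd_le_left _ (by norm_num)).trans (by norm_num)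
  have hg2 : Nat.gcd 2 (v ^ f' - 1) ∣ 2 := Nat.gcd_dvd_left _ _
  have hPe : (v ^ f') ^ 3 ≤ 8 * ttor t' (v ^ f') i' := by
    rcases ttor_s3 (u := v ^ f') hr hD.topi' with ⟨-, h⟩ | ⟨-, h⟩
    · rw [h]
      exact aux_sp (e := 3) hu (by norm_num) hg4 (by rw [show (6 : ℕ) = 2 * 3 from rfl, e1]; omega)
    · rw [h]
      exact aux_sp (e := 3) hu (by norm_num) hg4 (by rw [e2])
  have hPM : ttor t' (v ^ f') i' ≤ ttor t (p ^ f) i := by
    rw [hD.eqM]
    exact Nat.le_mul_of_pos_left _ hH0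
  have hPd : ttor t' (v ^ f') i' ∣ ttor t (p ^ f) i := by
    rw [hD.eqM]
    exact Nat.dvd_mul_left _ _
  have hP0 : 1 ≤ ttor t' (v ^ f') i' := by
    by_contra hcon
    have h0 : ttor t' (v ^ f') i' = 0 := by omega
    rw [h0] at hPe
    have := Nat.one_le_pow 3 (v ^ f') (by omega)
    omega
  have hB : (v ^ f') ^ 3 ≤ 8 * ttor t (p ^ f) i := by omega
  have hqL : p ^ f < 2 ^ L := by
    refine range4 (e0 := 3) (f' := f') (M := ttor t (p ^ f) i) hD5 (hdm _) hq3 (ttor_le5 h5 hD.pair hq3) ?_ hs hL h0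
    calc 2 ^ (3 * f') = (2 ^ f') ^ 3 := by rw [← pow_mul, mul_comm]
      _ ≤ (v ^ f') ^ 3 := Nat.pow_le_pow_left (Nat.pow_le_pow_left hD.v_prime.two_le _) _
      _ ≤ _ := hB
  have hf13 : f ≤ 13 := by
    by_contra hcon
    have hp3 : 3 ≤ p := by
      have := hD.p_prime.two_le
      have := hD.p_ne
      omega
    have h1 : 3 ^ 14 ≤ p ^ f := by
      calc 3 ^ 14 ≤ 3 ^ f := Nat.pow_le_pow_right (by norm_num) (by omega)
        _ ≤ p ^ f := Nat.pow_le_pow_left hp3 _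
    have h2 : 2 ^ L ≤ 2 ^ 18 := Nat.pow_le_pow_right (by norm_num) hL18
    norm_num at h1 h2
    omega
  have hM := chkT3_sound (ppB_sound hD.p_prime hf13) hD.pair (hT _ hq3 hqodd hqL)
  have hvq : ¬ v ∣ p ^ f := fun hd =>
    hD.vp ((Nat.prime_dvd_prime_iff_eq hD.v_prime hD.p_prime).1 (hD.v_prime.dvd_of_dvd_pow hd))
  obtain ⟨k1, k2⟩ := chkM3_sound hD.f'_pos hD.v_prime hvq hD.vM hB hs hM
  have hE : tstP (ttor t (p ^ f) i) (ttor t (p ^ f) j) (p ^ f) i (ng t) 4 (v ^ f')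
      (ttor t' (v ^ f') i') = true := by
    rcases ttor_s3 (u := v ^ f') hr hD.topi' with ⟨-, h⟩ | ⟨-, h⟩
    · rw [h] at hPd ⊢
      refine k1.resolve_left fun hb => ?_
      rw [blt_mod (dvd_of_mul e1 hg2 hPd)] at hb
      exact Bool.noConfusion hb
    · rw [h] at hPd ⊢
      refine k2.resolve_left fun hb => ?_
      rw [blt_mod (dvd_of_mul e2 hg2 hPd)] at hb
      exact Bool.noConfusion hb
  rw [tstP, Bool.or_eq_true, Bool.or_eq_true] at hE
  rcases hE with (h1 | h1) | h1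
  · rw [Bool.not_eq_true'] at h1
    have h2 : ttor t (p ^ f) i % ttor t' (v ^ f') i' = 0 := by
      rw [hD.eqM]
      exact Nat.mul_mod_left _ _
    rw [h2] at h1
    exact Bool.noConfusion h1
  · have h2 : ttor t (p ^ f) i / ttor t' (v ^ f') i' = H := by
      rw [hD.eqM]
      exact Nat.mul_div_cancel _ (by omega)
    rw [h2] at h1
    obtain ⟨r, hr1, hr2, hr3⟩ := killH_sound (t := t) (by omega) (pos_of_pair h5 hD.pair) h1
    exact hD.copH r hr1 hr3 hr2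
  · have hw := Fact.mk hD.w_prime
    obtain ⟨x, hx⟩ := exists_prime_orderOf_dvd_card' (G := S) w hD.wS
    have hwN := hD.ordw x (by rw [hx])
    rw [hx] at hwN
    have := rk_s3 hr
    exact wkill_sound (t := t') (by omega) h1 hD.w_prime hwN hD.j'3 (by omega) hD.clsw'

end Cfsg.Agent.R2.Spec.FIN
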