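import Cfsg.Agent.R2.Spec.FIN.Bnd

/-!
# S3435, packet FIN, small ranks: the search for all `S` with `RkFour` (helper7)
-/

set_option autoImplicit false

namespace Cfsg.Agent.R2.Spec.FIN

open Cfsg.Agent.H426.LieFam Cfsg.Agent.R2.Spec Cfsg.Agent.R2.Spec.P1 Cfsg.Agent.R2.Spec.E Cfsg.Agent.R2.Spec.F1

/-- quick test: no isolated number with the exponent `e` divides `M` -/
noncomputable def pre (M e u : ℕ) : Bool :=
  force (u ^ (e - 1)) fun y => force (y * u) fun x =>
    (Nat.blt 0 ((4 * M) % (x + 1)) && Nat.blt 0 ((4 * M) % (x - 1))) &&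
    ((Nat.blt 0 ((4 * M) % (y + 1)) && Nat.blt 0 ((4 * M) % (y - 1))) &&
    (Nat.blt e 5 || force (x * u) fun z => force (z * u) fun w =>
      (Nat.blt 0 (((e + 2) * M * (u - 1)) % (w - 1)) && Nat.blt 0 (((e + 2) * M) % (z - 1))) &&
      (bif Nat.beq (e % 2) 0 then
        Nat.blt 0 (((e + 2) * M * (u + 1)) % (w - 1)) && Nat.blt 0 (((e + 2) * M) % (z + 1))
      else Nat.blt 0 (((e + 2) * M * (u + 1)) % (w + 1)) && Nat.blt 0 (((e + 2) * M) % (z - 1)))))

/-- the exponents -/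
def ex4 : Fam → ℕ
  | .psl m => m - 2
  | .psu m => m - 2
  | .psp m => m
  | .oodd m => m
  | .oplus m => if m % 2 = 1 then m else m - 1
  | .ominus m => m
  | _ => 0

/-- the test for the exponent `e` and the number `u` -/
noncomputable def tstE4 (T : ℕ → ℕ → Bool) (e u : ℕ) : Bool :=
  (T e (ttor (.psp e) u (2 * e)) && (Nat.beq (e % 2) 0 || T e (ttor (.psp e) u e))) &&
  ((T e (ttor (.ominus e) u (2 * e)) && T e (ttor (.ominus e) u (2 * (e - 1)))) &&
    (Nat.beq (e % 2) 1 || T e (ttor (.ominus e) u (e - 1)))) &&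
  (Nat.beq (e % 2) 0 || ((T e (ttor (.oplus e) u e) && T e (ttor (.oplus e) u (2 * (e - 1)))) &&
    (T (e + 1) (ttor (.oplus (e + 1)) u (2 * e)) && T (e + 1) (ttor (.oplus (e + 1)) u e)))) &&
  (Nat.blt e 5 || ((T (e + 2) (ttor (.psl (e + 2)) u (e + 2)) && T (e + 2) (ttor (.psl (e + 2)) u (e + 1))) &&
    (T (e + 2) (ttor (.psu (e + 2)) u (e + 2)) && T (e + 2) (ttor (.psu (e + 2)) u (e + 1)))))

theorem nblt_of_le {a b : ℕ} (h : b ≤ a) : Nat.blt a b = false := by
  by_contra hcon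
  rw [Bool.not_eq_false, Nat.blt_eq] at hcon
  omega

theorem beq_mod_one {e : ℕ} (h : e % 2 = 1) : Nat.beq (e % 2) 1 = true := by rw [h]; rfl
theorem beq_mod_one' {e : ℕ} (h : e % 2 = 0) : Nat.beq (e % 2) 1 = false := by rw [h]; rfl
theorem beq_mod_zero {e : ℕ} (h : e % 2 = 0) : Nat.beq (e % 2) 0 = true := by rw [h]; rfl
theorem beq_mod_zero' {e : ℕ} (h : e % 2 = 1) : Nat.beq (e % 2) 0 = false := by rw [h]; rfl

theorem tstE4_sound {T : ℕ → ℕ → Bool} {t : Fam} {u i : ℕ} (hr : RkFour t) (hi : top t i)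
    (h : tstE4 T (ex4 t) u = true) : T (rk t) (ttor t u i) = true := by
  rw [tstE4, Bool.and_eq_true, Bool.and_eq_true, Bool.and_eq_true, Bool.and_eq_true, Bool.and_eq_true,
    Bool.and_eq_true] at h
  obtain ⟨⟨⟨⟨h1, h2⟩, ⟨h3, h4⟩, h5⟩, h6⟩, h7⟩ := h
  cases t with
  | psl m =>
    have hm : 7 ≤ m := hr
    have hi' : 3 ≤ i ∧ (i = m ∨ i + 1 = m) := hi
    obtain ⟨e, rfl⟩ : ∃ e, m = e + 2 := ⟨m - 2, by omega⟩
    rw [show ex4 (.psl (e + 2)) = e from rfl, nblt_of_le (show 5 ≤ e by omega), Bool.false_or, Bool.and_eq_true,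
      Bool.and_eq_true] at h7
    rcases hi'.2 with rfl | h8
    · exact h7.1.1
    · rw [show i = e + 1 by omega]
      exact h7.1.2
  | psu m =>
    have hm : 7 ≤ m := hr
    have hi' : 3 ≤ i ∧ (i = m ∨ i + 1 = m) := hi
    obtain ⟨e, rfl⟩ : ∃ e, m = e + 2 := ⟨m - 2, by omega⟩
    rw [show ex4 (.psu (e + 2)) = e from rfl, nblt_of_le (show 5 ≤ e by omega), Bool.false_or, Bool.and_eq_true,
      Bool.and_eq_true, Bool.and_eq_true] at h7
    rcases hi'.2 with rfl | h8
    · exact h7.2.1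
    · rw [show i = e + 1 by omega]
      exact h7.2.2
  | psp m =>
    have hi' : i = 2 * m ∨ (i = m ∧ m % 2 = 1) := hi
    rcases hi' with rfl | ⟨rfl, h8⟩
    · exact h1
    · rw [show ex4 (.psp i) = i from rfl, beq_mod_zero' h8, Bool.false_or] at h2
      exact h2
  | oodd m =>
    have hi' : i = 2 * m ∨ (i = m ∧ m % 2 = 1) := hi
    rcases hi' with rfl | ⟨rfl, h8⟩
    · exact h1
    · rw [show ex4 (.oodd i) = i from rfl, beq_mod_zero' h8, Bool.false_or] at h2
      exact h2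
  | oplus m =>
    have hm : 5 ≤ m := hr
    have hi' : (i = m ∧ m % 2 = 1) ∨ i = 2 * (m - 1) ∨ (i = m - 1 ∧ m % 2 = 0) := hi
    rcases Nat.mod_two_eq_zero_or_one m with h0 | h0
    · obtain ⟨e, rfl⟩ : ∃ e, m = e + 1 := ⟨m - 1, by omega⟩
      have he : ex4 (.oplus (e + 1)) = e := by
        rw [ex4, if_neg (by omega)]
        omega
      rw [he, beq_mod_zero' (show e % 2 = 1 by omega), Bool.false_or, Bool.and_eq_true, Bool.and_eq_true,
        Bool.and_eq_true] at h6
      rw [Nat.add_sub_cancel] at hi'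
      rcases hi' with ⟨-, h8⟩ | rfl | ⟨rfl, h8⟩
      · omega
      · exact h6.2.1
      · exact h6.2.2
    · have he : ex4 (.oplus m) = m := by rw [ex4, if_pos h0]
      rw [he, beq_mod_zero' h0, Bool.false_or, Bool.and_eq_true, Bool.and_eq_true] at h6
      rcases hi' with ⟨rfl, h8⟩ | rfl | ⟨rfl, h8⟩
      · exact h6.1.1
      · exact h6.1.2
      · omega
  | ominus m =>
    have hm : 4 ≤ m := hr
    have hi' : i = 2 * m ∨ i = 2 * (m - 1) ∨ (i = m - 1 ∧ m % 2 = 0) := hi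
    rcases hi' with rfl | rfl | ⟨rfl, h8⟩
    · exact h3
    · exact h4
    · rw [show ex4 (.ominus m) = m from rfl, beq_mod_one' h8, Bool.false_or] at h5
      exact h5
  | _ => exact hr.elim

/-- the numbers `X = P * g` -/
theorem dvd_of_mul {P g X M c : ℕ} (h : P * g = X) (hg : g ∣ c) (hP : P ∣ M) : X ∣ c * M := by
  rw [← h, mul_comm c M]
  exact Nat.mul_dvd_mul hP hg

theorem blt_mod {X A : ℕ} (h : X ∣ A) : Nat.blt 0 (A % X) = false := by
  rw [Nat.mod_eq_zero_of_dvd h]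
  rfl

/-- the numbers in `pre`, unfolded -/
theorem pre_eq {M e u : ℕ} (he : 1 ≤ e) : pre M e u =
    ((Nat.blt 0 ((4 * M) % (u ^ e + 1)) && Nat.blt 0 ((4 * M) % (u ^ e - 1))) &&
    ((Nat.blt 0 ((4 * M) % (u ^ (e - 1) + 1)) && Nat.blt 0 ((4 * M) % (u ^ (e - 1) - 1))) &&
    (Nat.blt e 5 ||
      ((Nat.blt 0 (((e + 2) * M * (u - 1)) % (u ^ (e + 2) - 1)) && Nat.blt 0 (((e + 2) * M) % (u ^ (e + 1) - 1))) &&
      (bif Nat.beq (e % 2) 0 then
        Nat.blt 0 (((e + 2) * M * (u + 1)) % (u ^ (e + 2) - 1)) && Nat.blt 0 (((e + 2) * M) % (u ^ (e + 1) + 1))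
      else Nat.blt 0 (((e + 2) * M * (u + 1)) % (u ^ (e + 2) + 1)) &&
        Nat.blt 0 (((e + 2) * M) % (u ^ (e + 1) - 1))))))) := by
  have e1 : u ^ (e - 1) * u = u ^ e := by rw [← pow_succ]; congr 1; omega
  have e2 : u ^ e * u = u ^ (e + 1) := (pow_succ _ _).symm
  have e3 : u ^ (e + 1) * u = u ^ (e + 2) := (pow_succ _ _).symm
  rw [pre, force_eq, force_eq, force_eq, force_eq, e1, e2, e3]

theorem and_false_of_left {a b : Bool} (h : a = false) : (a && b) = false := by rw [h]; rfl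
theorem and_false_of_right {a b : Bool} (h : b = false) : (a && b) = false := by rw [h]; cases a <;> rfl

theorem pre_sp {M e u : ℕ} (he : 1 ≤ e) (h : u ^ e + 1 ∣ 4 * M ∨ u ^ e - 1 ∣ 4 * M ∨ u ^ (e - 1) + 1 ∣ 4 * M ∨
    u ^ (e - 1) - 1 ∣ 4 * M) : pre M e u = false := by
  rw [pre_eq he]
  rcases h with h | h | h | h
  · exact and_false_of_left (and_false_of_left (blt_mod h))
  · exact and_false_of_left (and_false_of_right (blt_mod h))
  · exact and_false_of_right (and_false_of_left (and_false_of_left (blt_mod h)))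
  · exact and_false_of_right (and_false_of_left (and_false_of_right (blt_mod h)))

theorem pre_lin {M e u : ℕ} (he : 5 ≤ e) (h : u ^ (e + 2) - 1 ∣ (e + 2) * M * (u - 1) ∨ u ^ (e + 1) - 1 ∣ (e + 2) * M ∨
    (if e % 2 = 0 then u ^ (e + 2) - 1 else u ^ (e + 2) + 1) ∣ (e + 2) * M * (u + 1) ∨
    (if e % 2 = 0 then u ^ (e + 1) + 1 else u ^ (e + 1) - 1) ∣ (e + 2) * M) : pre M e u = false := by
  rw [pre_eq (by omega), nblt_of_le he, Bool.false_or]
  refine and_false_of_right (and_false_of_right ?_)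
  rcases h with h | h | h | h
  · exact and_false_of_left (and_false_of_left (blt_mod h))
  · exact and_false_of_left (and_false_of_right (blt_mod h))
  · apply and_false_of_right
    rcases Nat.mod_two_eq_zero_or_one e with h0 | h0
    · rw [if_pos h0] at h
      rw [beq_mod_zero h0, cond_true]
      exact and_false_of_left (blt_mod h)
    · rw [if_neg (by omega)] at h
      rw [beq_mod_zero' h0, cond_false]
      exact and_false_of_left (blt_mod h)
  · apply and_false_of_right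
    rcases Nat.mod_two_eq_zero_or_one e with h0 | h0
    · rw [if_pos h0] at h
      rw [beq_mod_zero h0, cond_true]
      exact and_false_of_right (blt_mod h)
    · rw [if_neg (by omega)] at h
      rw [beq_mod_zero' h0, cond_false]
      exact and_false_of_right (blt_mod h)

theorem gcd2_dvd_four (a : ℕ) : Nat.gcd 2 a ∣ 4 := (Nat.gcd_dvd_left 2 a).trans (by norm_num)

/-- **The quick test is sound.** -/
theorem pre_sound {t : Fam} {u i M : ℕ} (hr : RkFour t) (hi : top t i) (hu : 2 ≤ u) (hP : ttor t u i ∣ M) :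
    pre M (ex4 t) u = false := by
  cases t with
  | psl m =>
    have hm : 7 ≤ m := hr
    have hi' : 3 ≤ i ∧ (i = m ∨ i + 1 = m) := hi
    obtain ⟨h1, h2⟩ := val_psl (n := m) (q := u) (by omega) hu
    obtain ⟨e, rfl⟩ : ∃ e, m = e + 2 := ⟨m - 2, by omega⟩
    change pre M e u = false
    apply pre_lin (by omega)
    rcases hi'.2 with rfl | h8
    · left
      rw [← h1, mul_comm (e + 2) M, mul_assoc]
      exact Nat.mul_dvd_mul hP (Nat.mul_dvd_mul (Nat.gcd_dvd_left _ _) dvd_rfl)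
    · right; left
      obtain rfl : i = e + 1 := by omega
      exact dvd_of_mul h2 (Nat.gcd_dvd_left _ _) hP
  | psu m =>
    have hm : 7 ≤ m := hr
    have hi' : 3 ≤ i ∧ (i = m ∨ i + 1 = m) := hi
    obtain ⟨h1, h2⟩ := val_psu (n := m) (q := u) (by omega) hu
    obtain ⟨e, rfl⟩ : ∃ e, m = e + 2 := ⟨m - 2, by omega⟩
    rw [show (e + 2) % 2 = e % 2 by omega] at h1 h2
    change pre M e u = false
    apply pre_lin (by omega)
    rcases hi'.2 with rfl | h8
    · right; right; left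
      rw [← h1, mul_comm (e + 2) M, mul_assoc]
      exact Nat.mul_dvd_mul hP (Nat.mul_dvd_mul (Nat.gcd_dvd_left _ _) dvd_rfl)
    · right; right; right
      obtain rfl : i = e + 1 := by omega
      exact dvd_of_mul h2 (Nat.gcd_dvd_left _ _) hP
  | psp m =>
    have hm : 4 ≤ m := hr
    obtain ⟨h1, h2⟩ := val_psp (n := m) (q := u) (by omega) hu
    have hi' : i = 2 * m ∨ (i = m ∧ m % 2 = 1) := hi
    change pre M m u = false
    apply pre_sp (by omega)
    rcases hi' with rfl | ⟨rfl, -⟩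
    · left; exact dvd_of_mul h1 (gcd2_dvd_four _) hP
    · right; left; exact dvd_of_mul h2 (gcd2_dvd_four _) hP
  | oodd m =>
    have hm : 4 ≤ m := hr
    obtain ⟨h1, h2⟩ := val_psp (n := m) (q := u) (by omega) hu
    have hi' : i = 2 * m ∨ (i = m ∧ m % 2 = 1) := hi
    rw [ttor_oodd] at hP
    change pre M m u = false
    apply pre_sp (by omega)
    rcases hi' with rfl | ⟨rfl, -⟩
    · left; exact dvd_of_mul h1 (gcd2_dvd_four _) hP
    · right; left; exact dvd_of_mul h2 (gcd2_dvd_four _) hP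
  | oplus m =>
    have hm : 5 ≤ m := hr
    have hi' : (i = m ∧ m % 2 = 1) ∨ i = 2 * (m - 1) ∨ (i = m - 1 ∧ m % 2 = 0) := hi
    rcases Nat.mod_two_eq_zero_or_one m with h0 | h0
    · have he : ex4 (.oplus m) = m - 1 := by
        rw [ex4, if_neg (by omega)]
      obtain ⟨h1, h2⟩ := val_oplus_even (n := m) (q := u) (by omega) h0 hu
      rw [he]
      apply pre_sp (by omega)
      rcases hi' with ⟨-, h8⟩ | rfl | ⟨rfl, h8⟩
      · omega
      · left; exact dvd_of_mul h1 (gcd2_dvd_four _) hP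
      · right; left; exact dvd_of_mul h2 (gcd2_dvd_four _) hP
    · have he : ex4 (.oplus m) = m := by rw [ex4, if_pos h0]
      obtain ⟨h1, h2⟩ := val_oplus_odd (n := m) (q := u) (by omega) h0 hu
      rw [he]
      apply pre_sp (by omega)
      rcases hi' with ⟨rfl, h8⟩ | rfl | ⟨rfl, h8⟩
      · right; left; exact dvd_of_mul h1 (Nat.gcd_dvd_left _ _) hP
      · right; right; left
        exact (Dvd.intro _ rfl).trans (dvd_of_mul h2 (Nat.gcd_dvd_left _ _) hP)
      · omega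
  | ominus m =>
    have hm : 4 ≤ m := hr
    have hi' : i = 2 * m ∨ i = 2 * (m - 1) ∨ (i = m - 1 ∧ m % 2 = 0) := hi
    obtain ⟨h1, h2, h3⟩ := val_ominus (n := m) (q := u) (by omega) hu
    change pre M m u = false
    apply pre_sp (by omega)
    rcases hi' with rfl | rfl | ⟨rfl, h8⟩
    · left; exact dvd_of_mul h1 (Nat.gcd_dvd_left _ _) hP
    · right; right; left
      exact (Dvd.intro _ rfl).trans (dvd_of_mul h2 (Nat.gcd_dvd_left _ _) hP)
    · right; right; right
      exact (Dvd.intro _ rfl).trans (dvd_of_mul h3 (Nat.gcd_dvd_left _ _) hP)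
  | _ => exact hr.elim

theorem ex4_ge {t : Fam} (hr : RkFour t) : 4 ≤ ex4 t := by
  cases t with
  | psl m =>
    have h : 7 ≤ m := hr
    change 4 ≤ m - 2
    omega
  | psu m =>
    have h : 7 ≤ m := hr
    change 4 ≤ m - 2
    omega
  | psp m => exact hr
  | oodd m => exact hr
  | oplus m =>
    have h : 5 ≤ m := hr
    rw [ex4]
    split_ifs <;> omega
  | ominus m => exact hr
  | _ => exact hr.elim

theorem aux_om {x s P g X : ℕ} (hs : 1 ≤ s) (hg : g ≤ 4) (hX : x * s - s ≤ X) (h : P * g = X)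
    (hx : 8 ≤ x) : x * s ≤ 8 * P := by
  have h2 : P * g ≤ P * 4 := Nat.mul_le_mul_left _ hg
  have h3 : 8 * s ≤ x * s := Nat.mul_le_mul_right _ hx
  omega

/-- the lower bound of the isolated numbers of `S` -/
theorem pow_ex4_le {t : Fam} {u i : ℕ} (hr : RkFour t) (hi : top t i) (hu : 2 ≤ u) : u ^ ex4 t ≤ 8 * ttor t u i := by
  have hg2 : Nat.gcd 2 (u - 1) ≤ 4 := (Nat.gcd_le_left _ (by norm_num)).trans (by norm_num)
  cases t with
  | psl m =>
    have hm : 7 ≤ m := hr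
    have hi' : 3 ≤ i ∧ (i = m ∨ i + 1 = m) := hi
    obtain ⟨h1, h2⟩ := val_psl (n := m) (q := u) (by omega) hu
    obtain ⟨r, rfl⟩ : ∃ r, u = r + 1 := ⟨u - 1, by omega⟩
    rw [Nat.add_sub_cancel] at h1 h2
    have hg : Nat.gcd m r ≤ r := Nat.gcd_le_right _ (by omega)
    have hx : 1 ≤ (r + 1) ^ (m - 2) := Nat.one_le_pow _ _ (by omega)
    have e1 : (r + 1) ^ m = (r + 1) ^ (m - 2) * (r + 1) ^ 2 := by rw [← pow_add]; congr 1; omega
    have e2 : (r + 1) ^ (m - 1) = (r + 1) ^ (m - 2) * (r + 1) := by rw [← pow_succ]; congr 1; omega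
    change (r + 1) ^ (m - 2) ≤ _
    rw [e1] at h1
    rw [e2] at h2
    obtain ⟨x, hxx⟩ : ∃ x, x = (r + 1) ^ (m - 2) := ⟨_, rfl⟩
    rw [← hxx] at h1 h2 hx ⊢
    rcases hi'.2 with rfl | h8
    · obtain ⟨P, hP⟩ : ∃ P, P = ttor (.psl i) (r + 1) i := ⟨_, rfl⟩
      rw [← hP] at h1 ⊢
      have h3 : P * (Nat.gcd i r * r) ≤ P * (r * r) := Nat.mul_le_mul_left _ (Nat.mul_le_mul_right _ hg)
      have h4 : x * (r * r) ≤ x * (r + 1) ^ 2 - 1 := by
        have : x * (r + 1) ^ 2 = x * (r * r) + x * (2 * r) + x := by ring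
        rw [this]
        omega
      have h5 : x * (r * r) ≤ P * (r * r) := h4.trans (h1 ▸ h3)
      have h6 := Nat.le_of_mul_le_mul_right h5 (Nat.mul_pos (by omega) (by omega))
      omega
    · obtain rfl : i = m - 1 := by omega
      obtain ⟨P, hP⟩ : ∃ P, P = ttor (.psl m) (r + 1) (m - 1) := ⟨_, rfl⟩
      rw [← hP] at h2 ⊢
      have h3 : P * Nat.gcd m r ≤ P * r := Nat.mul_le_mul_left _ hg
      have h4 : x * r ≤ x * (r + 1) - 1 := by
        rw [Nat.mul_add]
        omega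
      have h5 : x * r ≤ P * r := h4.trans (h2 ▸ h3)
      have h6 := Nat.le_of_mul_le_mul_right h5 (by omega)
      omega
  | psu m =>
    have hm : 7 ≤ m := hr
    have hi' : 3 ≤ i ∧ (i = m ∨ i + 1 = m) := hi
    obtain ⟨h1, h2⟩ := val_psu (n := m) (q := u) (by omega) hu
    have hg : Nat.gcd m (u + 1) ≤ u + 1 := Nat.gcd_le_right _ (by omega)
    have hx : 1 ≤ u ^ (m - 2) := Nat.one_le_pow _ _ (by omega)
    have e1 : u ^ m = u ^ (m - 2) * u ^ 2 := by rw [← pow_add]; congr 1; omega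
    have e2 : u ^ (m - 1) = u ^ (m - 2) * u := by rw [← pow_succ]; congr 1; omega
    change u ^ (m - 2) ≤ _
    rw [e1] at h1
    rw [e2] at h2
    obtain ⟨x, hxx⟩ : ∃ x, x = u ^ (m - 2) := ⟨_, rfl⟩
    rw [← hxx] at h1 h2 hx ⊢
    rcases hi'.2 with rfl | h8
    · obtain ⟨P, hP⟩ : ∃ P, P = ttor (.psu i) u i := ⟨_, rfl⟩
      rw [← hP] at h1 ⊢
      have h3 : P * (Nat.gcd i (u + 1) * (u + 1)) ≤ P * ((u + 1) * (u + 1)) :=
        Nat.mul_le_mul_left _ (Nat.mul_le_mul_right _ hg)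
      have h4 : x * u ^ 2 - 1 ≤ P * ((u + 1) * (u + 1)) := by
        refine le_trans ?_ h3
        rw [h1]
        split_ifs <;> omega
      have h5 : x * ((u + 1) * (u + 1)) ≤ 8 * P * ((u + 1) * (u + 1)) := by
        have h6 : x * ((u + 1) * (u + 1)) + 8 ≤ 8 * (x * u ^ 2) := by
          obtain ⟨s, rfl⟩ : ∃ s, u = s + 2 := ⟨u - 2, by omega⟩
          obtain ⟨y, hy⟩ : ∃ y, x = y + 1 := ⟨x - 1, by omega⟩
          rw [hy]
          ring_nf
          nlinarith [Nat.zero_le (s * y), Nat.zero_le (s * s * y)]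
        have h7 : 8 * P * ((u + 1) * (u + 1)) = 8 * (P * ((u + 1) * (u + 1))) := by ring
        rw [h7]
        omega
      exact Nat.le_of_mul_le_mul_right h5 (Nat.mul_pos (by omega) (by omega))
    · obtain rfl : i = m - 1 := by omega
      obtain ⟨P, hP⟩ : ∃ P, P = ttor (.psu m) u (m - 1) := ⟨_, rfl⟩
      rw [← hP] at h2 ⊢
      have h3 : P * Nat.gcd m (u + 1) ≤ P * (u + 1) := Nat.mul_le_mul_left _ hg
      have h4 : x * u - 1 ≤ P * (u + 1) := by
        refine le_trans ?_ h3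
        rw [h2]
        split_ifs <;> omega
      have h5 : x * (u + 1) ≤ 8 * P * (u + 1) := by
        have h6 : x * (u + 1) + 8 ≤ 8 * (x * u) := by
          obtain ⟨s, rfl⟩ : ∃ s, u = s + 2 := ⟨u - 2, by omega⟩
          obtain ⟨y, hy⟩ : ∃ y, x = y + 1 := ⟨x - 1, by omega⟩
          rw [hy]
          ring_nf
          nlinarith [Nat.zero_le (s * y)]
        have h7 : 8 * P * (u + 1) = 8 * (P * (u + 1)) := by ring
        rw [h7]
        omega
      exact Nat.le_of_mul_le_mul_right h5 (by omega)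
  | psp m =>
    have hm : 4 ≤ m := hr
    obtain ⟨h1, h2⟩ := val_psp (n := m) (q := u) (by omega) hu
    have hi' : i = 2 * m ∨ (i = m ∧ m % 2 = 1) := hi
    rcases hi' with rfl | ⟨rfl, -⟩
    · exact aux_sp (e := m) hu (by omega) hg2 (by omega)
    · exact aux_sp (e := i) hu (by omega) hg2 (by omega)
  | oodd m =>
    have hm : 4 ≤ m := hr
    obtain ⟨h1, h2⟩ := val_psp (n := m) (q := u) (by omega) hu
    have hi' : i = 2 * m ∨ (i = m ∧ m % 2 = 1) := hi
    rw [ttor_oodd]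
    rcases hi' with rfl | ⟨rfl, -⟩
    · exact aux_sp (e := m) hu (by omega) hg2 (by omega)
    · exact aux_sp (e := i) hu (by omega) hg2 (by omega)
  | oplus m =>
    have hm : 5 ≤ m := hr
    have hi' : (i = m ∧ m % 2 = 1) ∨ i = 2 * (m - 1) ∨ (i = m - 1 ∧ m % 2 = 0) := hi
    have hg4 : Nat.gcd 4 (u ^ m - 1) ≤ 4 := Nat.gcd_le_left _ (by norm_num)
    rcases Nat.mod_two_eq_zero_or_one m with h0 | h0
    · have he : ex4 (.oplus m) = m - 1 := by
        rw [ex4, if_neg (by omega)]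
      rw [he]
      obtain ⟨h1, h2⟩ := val_oplus_even (n := m) (q := u) (by omega) h0 hu
      rcases hi' with ⟨-, h8⟩ | rfl | ⟨rfl, h8⟩
      · omega
      · exact aux_sp (e := m - 1) hu (by omega) hg2 (by omega)
      · exact aux_sp (e := m - 1) hu (by omega) hg2 (by omega)
    · have he : ex4 (.oplus m) = m := by rw [ex4, if_pos h0]
      rw [he]
      obtain ⟨h1, h2⟩ := val_oplus_odd (n := m) (q := u) (by omega) h0 hu
      have e1 : u ^ m = u ^ (m - 1) * u := by rw [← pow_succ]; congr 1; omega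
      rcases hi' with ⟨rfl, h8⟩ | rfl | ⟨rfl, h8⟩
      · exact aux_sp (e := i) hu (by omega) hg4 (by omega)
      · refine aux_sp (e := m) hu (by omega) hg4 ?_
        rw [h2, e1]
        have h3 : (u ^ (m - 1) + 1) * (u + 1) = u ^ (m - 1) * u + u ^ (m - 1) + u + 1 := by ring
        omega
      · omega
  | ominus m =>
    have hm : 4 ≤ m := hr
    have hi' : i = 2 * m ∨ i = 2 * (m - 1) ∨ (i = m - 1 ∧ m % 2 = 0) := hi
    have hg4 : Nat.gcd 4 (u ^ m + 1) ≤ 4 := Nat.gcd_le_left _ (by norm_num)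
    have e1 : u ^ m = u ^ (m - 1) * u := by rw [← pow_succ]; congr 1; omega
    obtain ⟨h1, h2, h3⟩ := val_ominus (n := m) (q := u) (by omega) hu
    change u ^ m ≤ _
    have hx : 8 ≤ u ^ (m - 1) := by
      calc 8 = 2 ^ 3 := by norm_num
        _ ≤ u ^ 3 := Nat.pow_le_pow_left hu 3
        _ ≤ u ^ (m - 1) := Nat.pow_le_pow_right (by omega) (by omega)
    have h4 : ∀ P : ℕ, P * Nat.gcd 4 (u ^ m + 1) ≤ P * 4 := fun P => Nat.mul_le_mul_left _ hg4
    rcases hi' with rfl | rfl | ⟨rfl, h8⟩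
    · exact aux_sp (e := m) hu (by omega) hg4 (by omega)
    · have h5 := h4 (ttor (.ominus m) u (2 * (m - 1)))
      rw [h2] at h5
      obtain ⟨r, rfl⟩ : ∃ r, u = r + 1 := ⟨u - 1, by omega⟩
      rw [Nat.add_sub_cancel] at h5
      rw [e1]
      have h6 : (r + 1) ^ (m - 1) ≤ (r + 1) ^ (m - 1) * r := Nat.le_mul_of_pos_right _ (by omega)
      have h7 : ((r + 1) ^ (m - 1) + 1) * r = (r + 1) ^ (m - 1) * r + r := by ring
      have h8 : (r + 1) ^ (m - 1) * (r + 1) = (r + 1) ^ (m - 1) * r + (r + 1) ^ (m - 1) := by ring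
      omega
    · have h5 := h4 (ttor (.ominus m) u (m - 1))
      rw [h3] at h5
      rw [e1]
      obtain ⟨x, hxx⟩ : ∃ x, u ^ (m - 1) = x + 8 := ⟨u ^ (m - 1) - 8, by omega⟩
      rw [hxx] at h5 ⊢
      rw [show x + 8 - 1 = x + 7 by omega] at h5
      nlinarith
  | _ => exact hr.elim

/-! ### the loops -/

/-- the test for `v` -/
noncomputable def tstV4 (M N q i : ℕ) (neg : Bool) (f' e v : ℕ) : Bool :=
  npB v || Nat.beq (q % v) 0 || Nat.beq (M % v) 0 ||
    force (v ^ f') fun u => pre M e u ||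
      tstE4 (fun m P => force P fun P => tstP M N q i neg m u P) e u

/-- the loop over `e` -/
noncomputable def tstF4 (e0 M N q i : ℕ) (neg : Bool) (f' : ℕ) : Bool :=
  allTo (fun k => force (k + e0) fun e => loopV (tstV4 M N q i neg f' e) (f' * e) (8 * M) 20000 2)
    (Nat.log2 (8 * M) / f' + 1 - e0)

/-- the test for `M` -/
noncomputable def chkM4 (e0 C M N q D d i : ℕ) (neg : Bool) : Bool :=
  force (Nat.log2 (8 * M) / e0) fun fm => !(szB C q D d fm) ||
    allTo (fun k => force (k + 1) fun f' => !(szB C q D d f') || tstF4 e0 M N q i neg f') fm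

/-- the test for one family -/
noncomputable def chkT4 (e0 C : ℕ) (t : Fam) (q : ℕ) : Bool :=
  !(ppB q) || (pairsL t).all fun x =>
    force x.1 fun i => force (ttor t q i) fun M => force (ttor t q x.2) fun N => force (dimL t) fun D =>
      force (dgL t q) fun d => chkM4 e0 C M N q D d i (ng t)

/-- the test for the odd numbers `2 k + a`, `k < b` -/
noncomputable def chkR4 (e0 C : ℕ) (t : Fam) (a b : ℕ) : Bool :=
  allTo (fun k => force (2 * k + a) fun q => chkT4 e0 C t q) b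

theorem tstV4_sound {M N q i : ℕ} {neg : Bool} {f' e v : ℕ} (hv : v.Prime) (hvq : ¬ v ∣ q) (hvM : ¬ v ∣ M)
    (hp : pre M e (v ^ f') = false) (h : tstV4 M N q i neg f' e v = true) :
    tstE4 (fun m P => tstP M N q i neg m (v ^ f') P) e (v ^ f') = true := by
  have hne : ∀ {a : ℕ}, ¬ v ∣ a → Nat.beq (a % v) 0 = false := by
    intro a ha
    by_contra hcon
    rw [Bool.not_eq_false, beq_iff] at hcon
    exact ha (Nat.dvd_of_mod_eq_zero hcon)
  rw [tstV4, npB_sound hv, hne hvq, hne hvM, Bool.false_or, Bool.false_or, Bool.false_or, force_eq, hp,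
    Bool.false_or] at h
  have h1 : (fun m P => force P fun P => tstP M N q i neg m (v ^ f') P) =
      fun m P => tstP M N q i neg m (v ^ f') P := by
    funext m P
    rw [force_eq]
  rw [h1] at h
  exact h

theorem chkM4_sound {e0 C M N q D d i : ℕ} {neg : Bool} {f' e v : ℕ} (he0 : 0 < e0) (hf : 1 ≤ f') (he : e0 ≤ e)
    (hv : v.Prime)
    (hvq : ¬ v ∣ q) (hvM : ¬ v ∣ M) (hB : (v ^ f') ^ e ≤ 8 * M)
    (hs : q ^ D ≤ C * d * (f' ^ 4 * (q + 1) ^ 3)) (hp : pre M e (v ^ f') = false)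
    (h : chkM4 e0 C M N q D d i neg = true) :
    tstE4 (fun m P => tstP M N q i neg m (v ^ f') P) e (v ^ f') = true := by
  have h1 : f' * e ≤ Nat.log2 (8 * M) := by
    apply le_log2_of_pow
    calc 2 ^ (f' * e) ≤ v ^ (f' * e) := Nat.pow_le_pow_left hv.two_le _
      _ = (v ^ f') ^ e := pow_mul _ _ _
      _ ≤ 8 * M := hB
  have h2 : f' ≤ Nat.log2 (8 * M) / e0 := by
    rw [Nat.le_div_iff_mul_le he0]
    exact (Nat.mul_le_mul_left f' he).trans h1
  have h3 : szB C q D d (Nat.log2 (8 * M) / e0) = true := by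
    rw [szB_iff]
    exact hs.trans (Nat.mul_le_mul_left _ (Nat.mul_le_mul_right _ (Nat.pow_le_pow_left h2 4)))
  rw [chkM4, force_eq, h3, Bool.not_true, Bool.false_or] at h
  have h4 := allTo_sound h (f' - 1) (by omega)
  rw [force_eq, show f' - 1 + 1 = f' by omega, szB_iff.2 hs, Bool.not_true, Bool.false_or] at h4
  have h5 : e ≤ Nat.log2 (8 * M) / f' := by
    rw [Nat.le_div_iff_mul_le (by omega), mul_comm]
    exact h1
  have h6 := allTo_sound h4 (e - e0) (by omega)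
  rw [force_eq, show e - e0 + e0 = e by omega] at h6
  refine tstV4_sound hv hvq hvM hp (loopV_sound h6 v hv.two_le ?_)
  rw [pow_mul]
  exact hB

theorem chkT4_sound {e0 C : ℕ} {t : Fam} {q i j : ℕ} (hpp : ppB q = true) (hp : PairOK t i j)
    (h : chkT4 e0 C t q = true) : chkM4 e0 C (ttor t q i) (ttor t q j) q (dimL t) (dgL t q) i (ng t) = true := by
  rw [chkT4, hpp, Bool.not_true, Bool.false_or, List.all_eq_true] at h
  have h2 := h (i, j) (mem_pairsL hp)
  rw [force_eq, force_eq, force_eq, force_eq, force_eq] at h2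
  exact h2

theorem chkR4_sound {e0 C : ℕ} {t : Fam} {a b k : ℕ} (h : chkR4 e0 C t a b = true) (hk : k < b) :
    chkT4 e0 C t (2 * k + a) = true := by
  have h1 := allTo_sound h k hk
  rw [force_eq] at h1
  exact h1

/-- **The test kills the duel.** -/
theorem kill4 {e0 C : ℕ} {t : Fam} {p f i j : ℕ} {t' : Fam} {v f' i' j' w H : ℕ} {S : Type*} [Group S] [Finite S]
    (he0 : 0 < e0) (hi1 : 1 ≤ i) (hD : Duel t p f i j t' v f' i' j' w H S) (hr : RkFour t') (hex : e0 ≤ ex4 t')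
    (hf13 : f ≤ 13)
    (hs : (p ^ f) ^ dimL t ≤ C * dgL t (p ^ f) * (f' ^ 4 * (p ^ f + 1) ^ 3))
    (hT : chkT4 e0 C t (p ^ f) = true) (hmem : j' ≤ 2 * rk t') : False := by
  obtain ⟨hq3, hqodd⟩ := f_q hD.p_prime hD.p_ne hD.f_pos
  have hu : 2 ≤ v ^ f' := hD.v_prime.two_le.trans (Nat.le_self_pow (by have := hD.f'_pos; omega) v)
  have hM0 : ttor t (p ^ f) i ≠ 0 := fun h0 => hD.vM (by rw [h0]; exact dvd_zero v)
  have hH0 : 1 ≤ H := by
    by_contra hcon
    have h0 : H = 0 := by omega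
    apply hM0
    rw [hD.eqM, h0, zero_mul]
  have hPe := pow_ex4_le hr hD.topi' hu
  have hP0 : 1 ≤ ttor t' (v ^ f') i' := by
    by_contra hcon
    have h0 : ttor t' (v ^ f') i' = 0 := by omega
    rw [h0] at hPe
    have := Nat.one_le_pow (ex4 t') (v ^ f') (by omega)
    omega
  have hPM : ttor t' (v ^ f') i' ≤ ttor t (p ^ f) i := by
    rw [hD.eqM]
    exact Nat.le_mul_of_pos_left _ hH0
  have hPd : ttor t' (v ^ f') i' ∣ ttor t (p ^ f) i := by
    rw [hD.eqM]
    exact Nat.dvd_mul_left _ _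
  have hB : (v ^ f') ^ ex4 t' ≤ 8 * ttor t (p ^ f) i := by omega
  have hM := chkT4_sound (ppB_sound hD.p_prime hf13) hD.pair hT
  have hvq : ¬ v ∣ p ^ f := fun hd =>
    hD.vp ((Nat.prime_dvd_prime_iff_eq hD.v_prime hD.p_prime).1 (hD.v_prime.dvd_of_dvd_pow hd))
  have hE := tstE4_sound hr hD.topi' (chkM4_sound he0 hD.f'_pos hex hD.v_prime hvq hD.vM hB hs
    (pre_sound hr hD.topi' hu hPd) hM)
  change tstP (ttor t (p ^ f) i) (ttor t (p ^ f) j) (p ^ f) i (ng t) (rk t') (v ^ f')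
    (ttor t' (v ^ f') i') = true at hE
  rw [tstP, Bool.or_eq_true, Bool.or_eq_true] at hE
  rcases hE with (h1 | h1) | h1
  · rw [Bool.not_eq_true'] at h1
    have h2 : ttor t (p ^ f) i % ttor t' (v ^ f') i' = 0 := by
      rw [hD.eqM]
      exact Nat.mul_mod_left _ _
    rw [h2] at h1
    exact Bool.noConfusion h1
  · have h2 : ttor t (p ^ f) i / ttor t' (v ^ f') i' = H := by
      rw [hD.eqM]
      exact Nat.mul_div_cancel _ (by omega)
    rw [h2] at h1
    obtain ⟨r, hr1, hr2, hr3⟩ := killH_sound (t := t) (by omega) hi1 h1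
    exact hD.copH r hr1 hr3 hr2
  · have hw := Fact.mk hD.w_prime
    obtain ⟨x, hx⟩ := exists_prime_orderOf_dvd_card' (G := S) w hD.wS
    have hwN := hD.ordw x (by rw [hx])
    rw [hx] at hwN
    exact wkill_sound (t := t') (by omega) h1 hD.w_prime hwN hD.j'3 hmem hD.clsw'

end Cfsg.Agent.R2.Spec.FIN
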