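import Cfsg.Agent.R2.Spec.FIN.Chk4

/-!
# S3435, packet FIN, small ranks: the range of the search (helper7)
-/

set_option autoImplicit false

namespace Cfsg.Agent.R2.Spec.FIN

open Cfsg.Agent.H426.LieFam Cfsg.Agent.R2.Spec Cfsg.Agent.R2.Spec.P1 Cfsg.Agent.R2.Spec.E Cfsg.Agent.R2.Spec.F1

/-- the upper bound of the isolated numbers of `L`, rank at least five -/
theorem ttor_le5 {t : Fam} {q i j : ℕ} (h5 : 5 ≤ rk t) (hp : PairOK t i j) (hq : 3 ≤ q) :
    ttor t q i ≤ 2 * q ^ dimL t := by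
  have hg2 : 0 < Nat.gcd 2 (q - 1) := Nat.gcd_pos_of_pos_left _ (by norm_num)
  cases t with
  | psl n =>
    have hn : 5 ≤ n := h5
    have hp' : (i = n ∧ j + 1 = n) ∨ (i + 1 = n ∧ j = n) := hp
    obtain ⟨h1, h2⟩ := val_psl (n := n) (q := q) (by omega) (by omega)
    have e1 : q ^ n = q ^ (n - 1) * q := by rw [← pow_succ]; congr 1; omega
    have hg : 0 < Nat.gcd n (q - 1) := Nat.gcd_pos_of_pos_left _ (by omega)
    have hx := Nat.one_le_pow (n - 1) q (by omega)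
    change _ ≤ 2 * q ^ (n - 1)
    rcases hp' with ⟨rfl, -⟩ | ⟨h8, -⟩
    · obtain ⟨r, rfl⟩ : ∃ r, q = r + 1 := ⟨q - 1, by omega⟩
      rw [Nat.add_sub_cancel] at h1 hg
      have h3 : ttor (.psl i) (r + 1) i * r ≤ 2 * (r + 1) ^ (i - 1) * r := by
        calc ttor (.psl i) (r + 1) i * r = ttor (.psl i) (r + 1) i * (1 * r) := by rw [one_mul]
          _ ≤ ttor (.psl i) (r + 1) i * (Nat.gcd i r * r) := Nat.mul_le_mul_left _ (Nat.mul_le_mul_right _ hg)
          _ = (r + 1) ^ i - 1 := h1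
          _ ≤ (r + 1) ^ (i - 1) * (r + 1) := by rw [e1]; omega
          _ = (r + 1) ^ (i - 1) * r + (r + 1) ^ (i - 1) := by ring
          _ ≤ (r + 1) ^ (i - 1) * r + (r + 1) ^ (i - 1) * r := by
              apply Nat.add_le_add_left
              exact Nat.le_mul_of_pos_right _ (by omega)
          _ = 2 * (r + 1) ^ (i - 1) * r := by ring
      exact Nat.le_of_mul_le_mul_right h3 (by omega)
    · obtain rfl : i = n - 1 := by omega
      have := le_of_mul_pos hg h2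
      omega
  | psu n =>
    have hn : 5 ≤ n := h5
    have hp' : (i = n ∧ j + 1 = n) ∨ (i + 1 = n ∧ j = n) := hp
    obtain ⟨h1, h2⟩ := val_psu (n := n) (q := q) (by omega) (by omega)
    have e1 : q ^ n = q ^ (n - 1) * q := by rw [← pow_succ]; congr 1; omega
    have hg : 0 < Nat.gcd n (q + 1) := Nat.gcd_pos_of_pos_left _ (by omega)
    have hx := Nat.one_le_pow (n - 1) q (by omega)
    change _ ≤ 2 * q ^ (n - 1)
    rcases hp' with ⟨rfl, -⟩ | ⟨h8, -⟩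
    · have h3 : ttor (.psu i) q i * (q + 1) ≤ 2 * q ^ (i - 1) * (q + 1) := by
        calc ttor (.psu i) q i * (q + 1) = ttor (.psu i) q i * (1 * (q + 1)) := by rw [one_mul]
          _ ≤ ttor (.psu i) q i * (Nat.gcd i (q + 1) * (q + 1)) :=
            Nat.mul_le_mul_left _ (Nat.mul_le_mul_right _ hg)
          _ ≤ q ^ (i - 1) * q + 1 := by
              rw [h1, e1]
              split_ifs <;> omega
          _ ≤ 2 * q ^ (i - 1) * (q + 1) := by nlinarith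
      exact Nat.le_of_mul_le_mul_right h3 (by omega)
    · obtain rfl : i = n - 1 := by omega
      have h3 := le_of_mul_pos hg h2
      split_ifs at h3 <;> omega
  | psp n =>
    have hn : 5 ≤ n := h5
    obtain ⟨-, hp'⟩ : n % 2 = 1 ∧ ((i = n ∧ j = 2 * n) ∨ (i = 2 * n ∧ j = n)) := hp
    obtain ⟨h1, h2⟩ := val_psp (n := n) (q := q) (by omega) (by omega)
    have hx := Nat.one_le_pow n q (by omega)
    change _ ≤ 2 * q ^ n
    rcases hp' with ⟨rfl, -⟩ | ⟨rfl, -⟩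
    · have := le_of_mul_pos hg2 h2
      omega
    · have := le_of_mul_pos hg2 h1
      omega
  | oodd n =>
    have hn : 5 ≤ n := h5
    obtain ⟨-, hp'⟩ : n % 2 = 1 ∧ ((i = n ∧ j = 2 * n) ∨ (i = 2 * n ∧ j = n)) := hp
    obtain ⟨h1, h2⟩ := val_psp (n := n) (q := q) (by omega) (by omega)
    have hx := Nat.one_le_pow n q (by omega)
    rw [ttor_oodd]
    change _ ≤ 2 * q ^ n
    rcases hp' with ⟨rfl, -⟩ | ⟨rfl, -⟩
    · have := le_of_mul_pos hg2 h2
      omega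
    · have := le_of_mul_pos hg2 h1
      omega
  | oplus n =>
    have hn : 5 ≤ n := h5
    have hp' : (n % 2 = 1 ∧ ((i = n ∧ j = 2 * (n - 1)) ∨ (i = 2 * (n - 1) ∧ j = n))) ∨
      (n % 2 = 0 ∧ ((i = n - 1 ∧ j = 2 * (n - 1)) ∨ (i = 2 * (n - 1) ∧ j = n - 1))) := hp
    have hg4 : 0 < Nat.gcd 4 (q ^ n - 1) := Nat.gcd_pos_of_pos_left _ (by norm_num)
    have hx := Nat.one_le_pow (n - 1) q (by omega)
    have e1 : q ^ n = q ^ (n - 1) * q := by rw [← pow_succ]; congr 1; omega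
    rcases hp' with ⟨h0, hp'⟩ | ⟨h0, hp'⟩
    · obtain ⟨h1, h2⟩ := val_oplus_odd (n := n) (q := q) (by omega) h0 (by omega)
      have hD : dimL (.oplus n) = n := by
        rw [dimL, if_neg (by omega)]
      rw [hD]
      rcases hp' with ⟨rfl, -⟩ | ⟨rfl, -⟩
      · have := le_of_mul_pos hg4 h1
        omega
      · have h3 := le_of_mul_pos hg4 h2
        have h4 : 9 ≤ q ^ (n - 1) := by
          calc 9 = 3 ^ 2 := by norm_num
            _ ≤ q ^ 2 := Nat.pow_le_pow_left hq 2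
            _ ≤ q ^ (n - 1) := Nat.pow_le_pow_right (by omega) (by omega)
        rw [e1]
        nlinarith
    · obtain ⟨h1, h2⟩ := val_oplus_even (n := n) (q := q) (by omega) h0 (by omega)
      have hD : dimL (.oplus n) = n - 1 := by
        rw [dimL, if_pos h0]
      rw [hD]
      rcases hp' with ⟨rfl, -⟩ | ⟨rfl, -⟩
      · have := le_of_mul_pos hg2 h2
        omega
      · have := le_of_mul_pos hg2 h1
        omega
  | ominus n =>
    have hn : 5 ≤ n := h5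
    have hp' : (i = 2 * n ∧ j = 2 * (n - 1)) ∨ (i = 2 * (n - 1) ∧ j = 2 * n) := hp
    have hg4 : 0 < Nat.gcd 4 (q ^ n + 1) := Nat.gcd_pos_of_pos_left _ (by norm_num)
    have hx := Nat.one_le_pow (n - 1) q (by omega)
    have e1 : q ^ n = q ^ (n - 1) * q := by rw [← pow_succ]; congr 1; omega
    obtain ⟨h1, h2, -⟩ := val_ominus (n := n) (q := q) (by omega) (by omega)
    change _ ≤ 2 * q ^ n
    rcases hp' with ⟨rfl, -⟩ | ⟨rfl, -⟩
    · have := le_of_mul_pos hg4 h1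
      have hy := Nat.one_le_pow n q (by omega)
      omega
    · have h3 := le_of_mul_pos hg4 h2
      obtain ⟨r, rfl⟩ : ∃ r, q = r + 1 := ⟨q - 1, by omega⟩
      rw [Nat.add_sub_cancel] at h3
      rw [e1]
      nlinarith
  | _ => exact absurd h5 (by change ¬ 5 ≤ 0; omega)

/-- the growth -/
theorem grow {D a c k L : ℕ} (ha : 2 ≤ a) (hL : 2 ≤ L) (h0 : c * (D * L + D + 3) ^ 4 < k * 2 ^ (L * a)) :
    ∀ l, L ≤ l → c * (D * l + D + 3) ^ 4 < k * 2 ^ (l * a) := by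
  intro l hl
  induction l, hl using Nat.le_induction with
  | base => exact h0
  | succ l hl ih =>
    obtain ⟨x, hx⟩ : ∃ x, x = D * l + D + 3 := ⟨_, rfl⟩
    have h1 : D * (l + 1) + D + 3 = x + D := by rw [hx]; ring
    have h2 : 3 * D ≤ x := by
      have : 2 * D ≤ D * l := by
        rw [mul_comm 2 D]
        exact Nat.mul_le_mul_left _ (by omega)
      omega
    have h3 : (x + D) ^ 4 ≤ 4 * x ^ 4 := by
      have h4 : (3 * (x + D)) ^ 4 ≤ (4 * x) ^ 4 := Nat.pow_le_pow_left (by omega) 4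
      have e1 : (3 * (x + D)) ^ 4 = 81 * (x + D) ^ 4 := by ring
      have e2 : (4 * x) ^ 4 = 256 * x ^ 4 := by ring
      rw [e1, e2] at h4
      omega
    rw [← hx] at ih
    rw [h1]
    have h5 : 4 ≤ 2 ^ a := by
      calc 4 = 2 ^ 2 := by norm_num
        _ ≤ 2 ^ a := Nat.pow_le_pow_right (by norm_num) ha
    calc c * (x + D) ^ 4 ≤ c * (4 * x ^ 4) := Nat.mul_le_mul_left _ h3
      _ = 4 * (c * x ^ 4) := by ring
      _ < 4 * (k * 2 ^ (l * a)) := by omega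
      _ ≤ 2 ^ a * (k * 2 ^ (l * a)) := Nat.mul_le_mul_right _ h5
      _ = k * 2 ^ ((l + 1) * a) := by rw [Nat.add_mul, one_mul, pow_add]; ring

/-- **The range of the search.** -/
theorem range4 {e0 D d dm C q f' M L : ℕ} (hD : 5 ≤ D) (hd : d ≤ dm) (hq : 3 ≤ q) (hM : M ≤ 2 * q ^ D)
    (hf : 2 ^ (e0 * f') ≤ 8 * M) (hs : q ^ D ≤ C * d * (f' ^ 4 * (q + 1) ^ 3)) (hL : 2 ≤ L)
    (h0 : (64 * C * dm) * (D * L + D + 3) ^ 4 < (27 * e0 ^ 4) * 2 ^ (L * (D - 3))) : q < 2 ^ L := by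
  by_contra hcon
  obtain ⟨l, hl⟩ : ∃ l, l = Nat.log2 q := ⟨_, rfl⟩
  have hl1 : 2 ^ l ≤ q := by rw [hl]; exact Nat.log2_self_le (by omega)
  have hl2 : q < 2 ^ (l + 1) := by rw [hl]; exact Nat.lt_log2_self
  have hlL : L ≤ l := by
    by_contra h1
    have h2 : 2 ^ (l + 1) ≤ 2 ^ L := Nat.pow_le_pow_right (by norm_num) (by omega)
    omega
  have h1 : 2 ^ (e0 * f') < 2 ^ (4 + D * (l + 1)) := by
    calc 2 ^ (e0 * f') ≤ 8 * M := hf
      _ ≤ 16 * q ^ D := by omega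
      _ < 16 * (2 ^ (l + 1)) ^ D := by
          apply Nat.mul_lt_mul_of_pos_left _ (by norm_num)
          exact Nat.pow_lt_pow_left hl2 (by omega)
      _ = 2 ^ (4 + D * (l + 1)) := by rw [← pow_mul, pow_add, mul_comm D]; norm_num
  have h2 : e0 * f' < 4 + D * (l + 1) := (Nat.pow_lt_pow_iff_right (by norm_num)).1 h1
  have h3 : e0 * f' ≤ D * l + D + 3 := by
    have : D * (l + 1) = D * l + D := by ring
    omega
  have h6 : 2 ^ (l * (D - 3)) ≤ q ^ (D - 3) := by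
    rw [pow_mul]
    exact Nat.pow_le_pow_left hl1 _
  have h7 : 27 * (q + 1) ^ 3 ≤ 64 * q ^ 3 := by
    have h8 : 3 * (q + 1) ≤ 4 * q := by omega
    calc 27 * (q + 1) ^ 3 = (3 * (q + 1)) ^ 3 := by ring
      _ ≤ (4 * q) ^ 3 := Nat.pow_le_pow_left h8 3
      _ = 64 * q ^ 3 := by ring
  have h8 : q ^ D = q ^ (D - 3) * q ^ 3 := by rw [← pow_add]; congr 1; omega
  have h9 : 27 * q ^ (D - 3) * q ^ 3 ≤ (C * d * f' ^ 4 * 64) * q ^ 3 := by
    calc 27 * q ^ (D - 3) * q ^ 3 = 27 * q ^ D := by rw [h8]; ring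
      _ ≤ 27 * (C * d * (f' ^ 4 * (q + 1) ^ 3)) := Nat.mul_le_mul_left _ hs
      _ = (C * d * f' ^ 4) * (27 * (q + 1) ^ 3) := by ring
      _ ≤ (C * d * f' ^ 4) * (64 * q ^ 3) := Nat.mul_le_mul_left _ h7
      _ = (C * d * f' ^ 4 * 64) * q ^ 3 := by ring
  have h10 := Nat.le_of_mul_le_mul_right h9 (Nat.pow_pos (by omega))
  have h11 : (27 * e0 ^ 4) * 2 ^ (l * (D - 3)) ≤ (64 * C * dm) * (D * l + D + 3) ^ 4 := by
    calc (27 * e0 ^ 4) * 2 ^ (l * (D - 3)) ≤ (27 * e0 ^ 4) * q ^ (D - 3) := Nat.mul_le_mul_left _ h6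
      _ = e0 ^ 4 * (27 * q ^ (D - 3)) := by ring
      _ ≤ e0 ^ 4 * (C * d * f' ^ 4 * 64) := Nat.mul_le_mul_left _ h10
      _ = (64 * C * d) * (e0 * f') ^ 4 := by ring
      _ ≤ (64 * C * dm) * (D * l + D + 3) ^ 4 :=
        Nat.mul_le_mul (Nat.mul_le_mul_left _ hd) (Nat.pow_le_pow_left h3 4)
  have h12 := grow (k := 27 * e0 ^ 4) (a := D - 3) (by omega) hL h0 l hlL
  omega

/-- the tests of a range of odd numbers -/
theorem odd_range {e0 C : ℕ} {t : Fam} {a b q : ℕ} (h : chkR4 e0 C t a b = true) (ha : a % 2 = 1) (hq : q % 2 = 1)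
    (h1 : a ≤ q) (h2 : q < a + 2 * b) : chkT4 e0 C t q = true := by
  have h4 := chkR4_sound (k := (q - a) / 2) h (by omega)
  rwa [show 2 * ((q - a) / 2) + a = q by omega] at h4

theorem chkT4_oodd {e0 C n q : ℕ} : chkT4 e0 C (.oodd n) q = chkT4 e0 C (.psp n) q := rfl

theorem pos_of_pair {t : Fam} {i j : ℕ} (hn : 5 ≤ rk t) (hp : PairOK t i j) : 1 ≤ i := by
  cases t with
  | psl n =>
    have h1 : (i = n ∧ j + 1 = n) ∨ (i + 1 = n ∧ j = n) := hp
    change 5 ≤ n at hn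
    omega
  | psu n =>
    have h1 : (i = n ∧ j + 1 = n) ∨ (i + 1 = n ∧ j = n) := hp
    change 5 ≤ n at hn
    omega
  | psp n =>
    have h1 : n % 2 = 1 ∧ ((i = n ∧ j = 2 * n) ∨ (i = 2 * n ∧ j = n)) := hp
    change 5 ≤ n at hn
    omega
  | oodd n =>
    have h1 : n % 2 = 1 ∧ ((i = n ∧ j = 2 * n) ∨ (i = 2 * n ∧ j = n)) := hp
    change 5 ≤ n at hn
    omega
  | oplus n =>
    have h1 : (n % 2 = 1 ∧ ((i = n ∧ j = 2 * (n - 1)) ∨ (i = 2 * (n - 1) ∧ j = n))) ∨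
      (n % 2 = 0 ∧ ((i = n - 1 ∧ j = 2 * (n - 1)) ∨ (i = 2 * (n - 1) ∧ j = n - 1))) := hp
    change 5 ≤ n at hn
    omega
  | ominus n =>
    have h1 : (i = 2 * n ∧ j = 2 * (n - 1)) ∨ (i = 2 * (n - 1) ∧ j = 2 * n) := hp
    change 5 ≤ n at hn
    omega
  | _ => exact hp.elim

/-- the general form of the search, small ranks -/
theorem small_gen {e0 C L dm : ℕ} {t : Fam} {p f i j : ℕ} {t' : Fam} {v f' i' j' w H : ℕ} {S : Type*} [Group S]
    [Finite S] (he0 : 0 < e0) (h5 : 5 ≤ rk t) (hD5 : 5 ≤ dimL t) (hdm : ∀ q, dgL t q ≤ dm)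
    (hD : Duel t p f i j t' v f' i' j' w H S) (hr : RkFour t') (hex : e0 ≤ ex4 t')
    (hs : SizeB C t p f f') (hL : 2 ≤ L) (hL18 : L ≤ 18)
    (h0 : (64 * C * dm) * (dimL t * L + dimL t + 3) ^ 4 < (27 * e0 ^ 4) * 2 ^ (L * (dimL t - 3)))
    (hT : ∀ q, 3 ≤ q → q % 2 = 1 → q < 2 ^ L → chkT4 e0 C t q = true) (hmem : j' ≤ 2 * rk t') : False := by
  obtain ⟨hq3, hqodd⟩ := f_q hD.p_prime hD.p_ne hD.f_pos
  have hu : 2 ≤ v ^ f' := hD.v_prime.two_le.trans (Nat.le_self_pow (by have := hD.f'_pos; omega) v)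
  have hM0 : ttor t (p ^ f) i ≠ 0 := fun h0 => hD.vM (by rw [h0]; exact dvd_zero v)
  have hH0 : 1 ≤ H := by
    by_contra hcon
    have h0 : H = 0 := by omega
    apply hM0
    rw [hD.eqM, h0, zero_mul]
  have hPe := pow_ex4_le hr hD.topi' hu
  have hPM : ttor t' (v ^ f') i' ≤ ttor t (p ^ f) i := by
    rw [hD.eqM]
    exact Nat.le_mul_of_pos_left _ hH0
  have hB : (v ^ f') ^ ex4 t' ≤ 8 * ttor t (p ^ f) i := by omega
  have hqL : p ^ f < 2 ^ L := by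
    refine range4 (e0 := e0) (f' := f') (M := ttor t (p ^ f) i) hD5 (hdm _) hq3 (ttor_le5 h5 hD.pair hq3) ?_ hs hL h0
    calc 2 ^ (e0 * f') = (2 ^ f') ^ e0 := by rw [← pow_mul, mul_comm]
      _ ≤ (v ^ f') ^ e0 := Nat.pow_le_pow_left (Nat.pow_le_pow_left hD.v_prime.two_le _) _
      _ ≤ (v ^ f') ^ ex4 t' := Nat.pow_le_pow_right (by omega) hex
      _ ≤ _ := hB
  have hf13 : f ≤ 13 := by
    by_contra hcon
    have hp3 : 3 ≤ p := by
      have := hD.p_prime.two_le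
      have := hD.p_ne
      omega
    have h1 : 3 ^ 14 ≤ p ^ f := by
      calc 3 ^ 14 ≤ 3 ^ f := Nat.pow_le_pow_right (by norm_num) (by omega)
        _ ≤ p ^ f := Nat.pow_le_pow_left hp3 _
    have h2 : 2 ^ L ≤ 2 ^ 18 := Nat.pow_le_pow_right (by norm_num) hL18
    norm_num at h1 h2
    omega
  exact kill4 he0 (pos_of_pair h5 hD.pair) hD hr hex hf13 hs (hT _ hq3 hqodd hqL) hmem

end Cfsg.Agent.R2.Spec.FIN
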