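import Cfsg.Agent.R2.Spec.FIN.Range4

/-! # S3435, packet FIN, small ranks: the search (helper7) -/

set_option autoImplicit false

namespace Cfsg.Agent.R2.Spec.FIN

theorem oplus5_0 : chkR4 4 (2 ^ 10) (.oplus 5) 3 500 = true := by decide +kernel
theorem oplus5_1 : chkR4 4 (2 ^ 10) (.oplus 5) 1003 3595 = true := by decide +kernel
theorem oplus5_2 : chkR4 4 (2 ^ 10) (.oplus 5) 8193 4096 = true := by decide +kernel
theorem oplus5_3 : chkR4 4 (2 ^ 10) (.oplus 5) 16385 8192 = true := by decide +kernel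

theorem oplus5_all {q : ℕ} (h3 : 3 ≤ q) (ho : q % 2 = 1) (hq : q < 2 ^ 15) : chkT4 4 (2 ^ 10) (.oplus 5) q = true := by
  rw [show (2 : ℕ) ^ 15 = 32768 by norm_num] at hq
  by_cases h0 : q < 1003
  · exact odd_range oplus5_0 (by norm_num) ho (by omega) (by omega)
  by_cases h1 : q < 8193
  · exact odd_range oplus5_1 (by norm_num) ho (by omega) (by omega)
  by_cases h2 : q < 16385
  · exact odd_range oplus5_2 (by norm_num) ho (by omega) (by omega)
  · exact odd_range oplus5_3 (by norm_num) ho (by omega) (by omega)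

end Cfsg.Agent.R2.Spec.FIN
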