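import Cfsg.Agent.R2.Spec.FIN.Range4

/-! # S3435, packet FIN, small ranks: the search (helper7) -/

set_option autoImplicit false

namespace Cfsg.Agent.R2.Spec.FIN

theorem ominus6_0 : chkR4 4 (2 ^ 15) (.ominus 6) 3 100 = true := by decide +kernel
theorem ominus6_1 : chkR4 4 (2 ^ 15) (.ominus 6) 203 1947 = true := by decide +kernel

theorem ominus6_all {q : ℕ} (h3 : 3 ≤ q) (ho : q % 2 = 1) (hq : q < 2 ^ 12) : chkT4 4 (2 ^ 15) (.ominus 6) q = true := by
  rw [show (2 : ℕ) ^ 12 = 4096 by norm_num] at hq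
  by_cases h0 : q < 203
  · exact odd_range ominus6_0 (by norm_num) ho (by omega) (by omega)
  · exact odd_range ominus6_1 (by norm_num) ho (by omega) (by omega)

theorem psl7_0 : chkR4 4 (2 ^ 15) (.psl 7) 3 100 = true := by decide +kernel
theorem psl7_1 : chkR4 4 (2 ^ 15) (.psl 7) 203 3995 = true := by decide +kernel

theorem psl7_all {q : ℕ} (h3 : 3 ≤ q) (ho : q % 2 = 1) (hq : q < 2 ^ 13) : chkT4 4 (2 ^ 15) (.psl 7) q = true := by
  rw [show (2 : ℕ) ^ 13 = 8192 by norm_num] at hq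
  by_cases h0 : q < 203
  · exact odd_range psl7_0 (by norm_num) ho (by omega) (by omega)
  · exact odd_range psl7_1 (by norm_num) ho (by omega) (by omega)

theorem psu7_0 : chkR4 4 (2 ^ 15) (.psu 7) 3 100 = true := by decide +kernel
theorem psu7_1 : chkR4 4 (2 ^ 15) (.psu 7) 203 3995 = true := by decide +kernel

theorem psu7_all {q : ℕ} (h3 : 3 ≤ q) (ho : q % 2 = 1) (hq : q < 2 ^ 13) : chkT4 4 (2 ^ 15) (.psu 7) q = true := by
  rw [show (2 : ℕ) ^ 13 = 8192 by norm_num] at hq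
  by_cases h0 : q < 203
  · exact odd_range psu7_0 (by norm_num) ho (by omega) (by omega)
  · exact odd_range psu7_1 (by norm_num) ho (by omega) (by omega)

theorem psl8_0 : chkR4 4 (2 ^ 15) (.psl 8) 3 100 = true := by decide +kernel
theorem psl8_1 : chkR4 4 (2 ^ 15) (.psl 8) 203 411 = true := by decide +kernel

theorem psl8_all {q : ℕ} (h3 : 3 ≤ q) (ho : q % 2 = 1) (hq : q < 2 ^ 10) : chkT4 4 (2 ^ 15) (.psl 8) q = true := by
  rw [show (2 : ℕ) ^ 10 = 1024 by norm_num] at hq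
  by_cases h0 : q < 203
  · exact odd_range psl8_0 (by norm_num) ho (by omega) (by omega)
  · exact odd_range psl8_1 (by norm_num) ho (by omega) (by omega)

theorem psu8_0 : chkR4 4 (2 ^ 15) (.psu 8) 3 100 = true := by decide +kernel
theorem psu8_1 : chkR4 4 (2 ^ 15) (.psu 8) 203 411 = true := by decide +kernel

theorem psu8_all {q : ℕ} (h3 : 3 ≤ q) (ho : q % 2 = 1) (hq : q < 2 ^ 10) : chkT4 4 (2 ^ 15) (.psu 8) q = true := by
  rw [show (2 : ℕ) ^ 10 = 1024 by norm_num] at hq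
  by_cases h0 : q < 203
  · exact odd_range psu8_0 (by norm_num) ho (by omega) (by omega)
  · exact odd_range psu8_1 (by norm_num) ho (by omega) (by omega)

end Cfsg.Agent.R2.Spec.FIN
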