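import Cfsg.Agent.R2.Spec.FIN.Range4

/-! # S3435, packet FIN, small ranks: the search (helper7) -/

set_option autoImplicit false

namespace Cfsg.Agent.R2.Spec.FIN

theorem ominus6v_0 : chkR4 5 17064 (.ominus 6) 3 100 = true := by decide +kernel
theorem ominus6v_1 : chkR4 5 17064 (.ominus 6) 203 923 = true := by decide +kernel

theorem ominus6v_all {q : ℕ} (h3 : 3 ≤ q) (ho : q % 2 = 1) (hq : q < 2 ^ 11) : chkT4 5 17064 (.ominus 6) q = true := by
  rw [show (2 : ℕ) ^ 11 = 2048 by norm_num] at hq
  by_cases h0 : q < 203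
  · exact odd_range ominus6v_0 (by norm_num) ho (by omega) (by omega)
  · exact odd_range ominus6v_1 (by norm_num) ho (by omega) (by omega)

end Cfsg.Agent.R2.Spec.FIN
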