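import Cfsg.Agent.R2.Spec.FIN.S4a
import Cfsg.Agent.R2.Spec.FIN.S4b
import Cfsg.Agent.R2.Spec.FIN.S4c
import Cfsg.Agent.R2.Spec.FIN.S4d
import Cfsg.Agent.R2.Spec.FIN.S4e
import Cfsg.Agent.R2.Spec.RKS.Clq

/-!
# S3435, packet FIN, small ranks (helper7)

* `fin_small` : `SmallD t` (`psp`, `oodd` 5, `oplus`, `ominus` 5, 6), `Duel`, `RkFour t'`, `SizeB (2 ^ 10)` : `False`;
* `fin_lin` : `t` is `psl`, `psu` 7, 8 or `ominus 6`, `Duel`, `RkFour t'`, `SizeB (2 ^ 15)` : `False`.
-/

set_option autoImplicit false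

namespace Cfsg.Agent.R2.Spec.FIN

open Cfsg.Agent.H426.LieFam Cfsg.Agent.R2.Spec Cfsg.Agent.R2.Spec.P1 Cfsg.Agent.R2.Spec.E Cfsg.Agent.R2.Spec.F1

universe u

/-- ranks 5, 6 of the symplectic and orthogonal families -/
def SmallD : Fam → Prop
  | .psp n => n = 5
  | .oodd n => n = 5
  | .oplus n => n = 5 ∨ n = 6
  | .ominus n => n = 5 ∨ n = 6
  | _ => False

/-- ranks 7, 8 of the linear and unitary families, `POmega^-_12` -/
def SmallA : Fam → Prop
  | .psl n => n = 7 ∨ n = 8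
  | .psu n => n = 7 ∨ n = 8
  | .ominus n => n = 6
  | _ => False

theorem gcd_le7 {n : ℕ} (hn : 0 < n) (k : ℕ) : Nat.gcd n k ≤ n := Nat.gcd_le_left _ hn

/-- **Ranks 7, 8 of the linear and unitary families.** -/
theorem fin_lin {t : Fam} {p f i j : ℕ} {t' : Fam} {v f' i' j' w H : ℕ} {S : Type u} [Group S] [Finite S]
    (ht : SmallA t) (hD : Duel t p f i j t' v f' i' j' w H S) (hr : RkFour t') (hs : SizeB (2 ^ 15) t p f f') :
    False := by
  have hm := RKS.le_of_mem hD.memj'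
  cases t with
  | psl n =>
    rcases (show n = 7 ∨ n = 8 from ht) with rfl | rfl
    · exact small_gen (L := 13) (dm := 7) (by norm_num) (by change 5 ≤ 7; norm_num) (by change 5 ≤ 7 - 1; norm_num)
        (fun q => gcd_le7 (by norm_num) _) hD hr (ex4_ge hr) hs (by norm_num) (by norm_num)
        (by change (64 * 2 ^ 15 * 7) * (6 * 13 + 6 + 3) ^ 4 < (27 * 4 ^ 4) * 2 ^ (13 * (6 - 3)); norm_num)
        (fun q => psl7_all) hm
    · exact small_gen (L := 10) (dm := 8) (by norm_num) (by change 5 ≤ 8; norm_num) (by change 5 ≤ 8 - 1; norm_num)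
        (fun q => gcd_le7 (by norm_num) _) hD hr (ex4_ge hr) hs (by norm_num) (by norm_num)
        (by change (64 * 2 ^ 15 * 8) * (7 * 10 + 7 + 3) ^ 4 < (27 * 4 ^ 4) * 2 ^ (10 * (7 - 3)); norm_num)
        (fun q => psl8_all) hm
  | psu n =>
    rcases (show n = 7 ∨ n = 8 from ht) with rfl | rfl
    · exact small_gen (L := 13) (dm := 7) (by norm_num) (by change 5 ≤ 7; norm_num) (by change 5 ≤ 7 - 1; norm_num)
        (fun q => gcd_le7 (by norm_num) _) hD hr (ex4_ge hr) hs (by norm_num) (by norm_num)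
        (by change (64 * 2 ^ 15 * 7) * (6 * 13 + 6 + 3) ^ 4 < (27 * 4 ^ 4) * 2 ^ (13 * (6 - 3)); norm_num)
        (fun q => psu7_all) hm
    · exact small_gen (L := 10) (dm := 8) (by norm_num) (by change 5 ≤ 8; norm_num) (by change 5 ≤ 8 - 1; norm_num)
        (fun q => gcd_le7 (by norm_num) _) hD hr (ex4_ge hr) hs (by norm_num) (by norm_num)
        (by change (64 * 2 ^ 15 * 8) * (7 * 10 + 7 + 3) ^ 4 < (27 * 4 ^ 4) * 2 ^ (10 * (7 - 3)); norm_num)
        (fun q => psu8_all) hm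
  | ominus n =>
    obtain rfl : n = 6 := ht
    exact small_gen (L := 12) (dm := 1) (by norm_num) (by change 5 ≤ 6; norm_num) (by change 5 ≤ 6; norm_num)
      (fun q => le_refl 1) hD hr (ex4_ge hr) hs (by norm_num) (by norm_num)
      (by change (64 * 2 ^ 15 * 1) * (6 * 12 + 6 + 3) ^ 4 < (27 * 4 ^ 4) * 2 ^ (12 * (6 - 3)); norm_num)
      (fun q => ominus6_all) hm
  | _ => exact ht.elim

/-- **Ranks 5, 6 of the symplectic and orthogonal families.** -/
theorem fin_small {t : Fam} {p f i j : ℕ} {t' : Fam} {v f' i' j' w H : ℕ} {S : Type u} [Group S] [Finite S]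
    (ht : SmallD t) (hD : Duel t p f i j t' v f' i' j' w H S) (hr : RkFour t') (hs : SizeB (2 ^ 10) t p f f') :
    False := by
  have hm := RKS.le_of_mem hD.memj'
  have key : ∀ {t : Fam}, Duel t p f i j t' v f' i' j' w H S → SizeB (2 ^ 10) t p f f' → 5 ≤ rk t → dimL t = 5 →
      (∀ q, dgL t q ≤ 1) → (∀ q, 3 ≤ q → q % 2 = 1 → q < 2 ^ 15 → chkT4 4 (2 ^ 10) t q = true) → False := by
    intro t hD hs h1 h2 h3 h4
    refine small_gen (L := 15) (dm := 1) (by norm_num) h1 (by omega) h3 hD hr (ex4_ge hr) hs (by norm_num)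
      (by norm_num) ?_ h4 hm
    rw [h2]
    norm_num
  cases t with
  | psp n =>
    obtain rfl : n = 5 := ht
    exact key hD hs (by change 5 ≤ 5; norm_num) rfl (fun q => le_refl 1) fun q => psp5_all
  | oodd n =>
    obtain rfl : n = 5 := ht
    exact key hD hs (by change 5 ≤ 5; norm_num) rfl (fun q => le_refl 1)
      fun q h1 h2 h3 => chkT4_oodd.trans (psp5_all h1 h2 h3)
  | oplus n =>
    rcases (show n = 5 ∨ n = 6 from ht) with rfl | rfl
    · exact key hD hs (by change 5 ≤ 5; norm_num) rfl (fun q => le_refl 1) fun q => oplus5_all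
    · exact key hD hs (by change 5 ≤ 6; norm_num) rfl (fun q => le_refl 1) fun q => oplus6_all
  | ominus n =>
    rcases (show n = 5 ∨ n = 6 from ht) with rfl | rfl
    · exact key hD hs (by change 5 ≤ 5; norm_num) rfl (fun q => le_refl 1) fun q => ominus5_all
    · refine fin_lin (t := .ominus 6) rfl hD hr ?_
      exact le_trans hs (Nat.mul_le_mul_right _ (Nat.mul_le_mul_right _ (by norm_num)))
  | _ => exact ht.elim

end Cfsg.Agent.R2.Spec.FIN
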