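import Cfsg.Agent.R2.Spec.FIN.S5a
import Cfsg.Agent.R2.Spec.FIN.S5b
import Cfsg.Agent.R2.Spec.RKS.Clq

/-!
# S3435, packet FIN, small ranks with five classes (helper7)

`fin_five_small` : `t` is `psp 5`, `oodd 5`, `ominus 6`, `Duel`, `RkFive t'`, `SizeB 17064` : `False`.
-/

set_option autoImplicit false

namespace Cfsg.Agent.R2.Spec.FIN

open Cfsg.Agent.H426.LieFam Cfsg.Agent.R2.Spec Cfsg.Agent.R2.Spec.P1 Cfsg.Agent.R2.Spec.E Cfsg.Agent.R2.Spec.F1

universe u

theorem ex4_ge5 {t : Fam} (hr : RkFive t) : 5 ≤ ex4 t := by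
  cases t with
  | psl m =>
    have h : 9 ≤ m := hr
    change 5 ≤ m - 2
    omega
  | psu m =>
    have h : 9 ≤ m := hr
    change 5 ≤ m - 2
    omega
  | psp m => exact hr
  | oodd m => exact hr
  | oplus m =>
    have h : 7 ≤ m := hr
    rw [ex4]
    split_ifs <;> omega
  | ominus m =>
    have h : 6 ≤ m := hr
    change 5 ≤ m
    omega
  | _ => exact hr.elim

/-- the ranks -/
def Small5 : Fam → Prop
  | .psp n => n = 5
  | .oodd n => n = 5
  | .ominus n => n = 6
  | _ => False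

/-- **Ranks 5, 6 with five classes.** -/
theorem fin_five_small {t : Fam} {p f i j : ℕ} {t' : Fam} {v f' i' j' w H : ℕ} {S : Type u} [Group S] [Finite S]
    (ht : Small5 t) (hD : Duel t p f i j t' v f' i' j' w H S) (hr : RkFive t') (hs : SizeB 17064 t p f f') :
    False := by
  have hm := RKS.le_of_mem hD.memj'
  have h4 := RKS.rkFour_of_rkFive hr
  cases t with
  | psp n =>
    obtain rfl : n = 5 := ht
    exact small_gen (L := 16) (dm := 1) (by norm_num) (by change 5 ≤ 5; norm_num) (by change 5 ≤ 5; norm_num)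
      (fun q => le_refl 1) hD h4 (ex4_ge5 hr) hs (by norm_num) (by norm_num)
      (by change (64 * 17064 * 1) * (5 * 16 + 5 + 3) ^ 4 < (27 * 5 ^ 4) * 2 ^ (16 * (5 - 3)); norm_num)
      (fun q => psp5v_all) hm
  | oodd n =>
    obtain rfl : n = 5 := ht
    exact small_gen (L := 16) (dm := 1) (by norm_num) (by change 5 ≤ 5; norm_num) (by change 5 ≤ 5; norm_num)
      (fun q => le_refl 1) hD h4 (ex4_ge5 hr) hs (by norm_num) (by norm_num)
      (by change (64 * 17064 * 1) * (5 * 16 + 5 + 3) ^ 4 < (27 * 5 ^ 4) * 2 ^ (16 * (5 - 3)); norm_num)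
      (fun q h1 h2 h3 => chkT4_oodd.trans (psp5v_all h1 h2 h3)) hm
  | ominus n =>
    obtain rfl : n = 6 := ht
    exact small_gen (L := 11) (dm := 1) (by norm_num) (by change 5 ≤ 6; norm_num) (by change 5 ≤ 6; norm_num)
      (fun q => le_refl 1) hD h4 (ex4_ge5 hr) hs (by norm_num) (by norm_num)
      (by change (64 * 17064 * 1) * (6 * 11 + 6 + 3) ^ 4 < (27 * 5 ^ 4) * 2 ^ (11 * (6 - 3)); norm_num)
      (fun q => ominus6v_all) hm
  | _ => exact ht.elim

end Cfsg.Agent.R2.Spec.FIN
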