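import Cfsg.Agent.R2.Spec.FIN.Chk
import Cfsg.Agent.R2.Spec.F1.Comb

/-!
# S3435, packet FIN: soundness of the search (helper7)
-/

set_option autoImplicit false

namespace Cfsg.Agent.R2.Spec.FIN

open Cfsg.Agent.H426.LieFam Cfsg.Agent.R2.Spec Cfsg.Agent.R2.Spec.P1 Cfsg.Agent.R2.Spec.E Cfsg.Agent.R2.Spec.F1

theorem beq_iff {a b : ℕ} : Nat.beq a b = true ↔ a = b := by
  rw [Nat.beq_eq]

theorem cast_zero_iff {r k : ℕ} : (r ∣ k) ↔ ((k : ℕ) : ZMod r) = 0 := (ZMod.natCast_eq_zero_iff k r).symm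

theorem dvd_sub_one_iff {r q k : ℕ} (hq : 1 ≤ q) : r ∣ q ^ k - 1 ↔ ((q : ℕ) : ZMod r) ^ k = 1 := by
  rw [cast_zero_iff, Nat.cast_sub (Nat.one_le_pow _ _ hq), Nat.cast_pow, Nat.cast_one, sub_eq_zero]

theorem dvd_add_one_iff {r q k : ℕ} : r ∣ q ^ k + 1 ↔ -((q : ℕ) : ZMod r) ^ k = 1 := by
  rw [cast_zero_iff, Nat.cast_add, Nat.cast_pow, Nat.cast_one, neg_eq_iff_add_eq_zero]

theorem ab_dvd {t : Fam} {r q k : ℕ} (hq : 1 ≤ q) :
    r ∣ ab (ng t) q k ↔ ((sg t q : ℤ) : ZMod r) ^ k = 1 := by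
  have key : ∀ {t : Fam}, sg t q = (q : ℤ) → ng t = false →
      (r ∣ ab (ng t) q k ↔ ((sg t q : ℤ) : ZMod r) ^ k = 1) := by
    intro t h1 h2
    rw [h1, h2, ab, Bool.false_and, cond_false, Int.cast_natCast]
    exact dvd_sub_one_iff hq
  cases t with
  | psu n =>
    rw [ab, show ng (.psu n) = true from rfl, Bool.true_and, show sg (.psu n) q = -(q : ℤ) from rfl]
    push_cast
    rcases Nat.mod_two_eq_zero_or_one k with h | h
    · rw [show Nat.beq (k % 2) 1 = false by rw [h]; rfl, cond_false, (Nat.even_iff.2 h).neg_pow]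
      exact dvd_sub_one_iff hq
    · rw [show Nat.beq (k % 2) 1 = true by rw [h]; rfl, cond_true, (Nat.odd_iff.2 h).neg_pow]
      exact dvd_add_one_iff
  | _ => exact key rfl rfl

theorem ab_dvd_Bf {neg : Bool} {q i d : ℕ} (hd : 1 ≤ d) (hdi : d < i) (hdv : d ∣ i) :
    ∀ k, d ≤ k → ab neg q d ∣ Bf neg q i k := by
  intro k
  induction k with
  | zero => intro h; omega
  | succ k ih =>
    intro h
    rw [Bf]
    by_cases hk : d = k + 1
    · subst hk
      have h1 : Nat.blt (k + 1) i = true := by rw [Nat.blt_eq]; exact hdi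
      have h2 : Nat.beq (i % (k + 1)) 0 = true := by rw [beq_iff]; exact Nat.mod_eq_zero_of_dvd hdv
      rw [h1, h2, Bool.true_and, cond_true]
      exact Dvd.intro_left _ rfl
    · exact (ih (by omega)).mul_right _

theorem killH_sound {t : Fam} {q i H : ℕ} (hq : 1 ≤ q) (hi : 1 ≤ i) (h : killH (ng t) q i H = true) :
    ∃ r : ℕ, r.Prime ∧ r ∣ H ∧ cls t q r = i := by
  obtain ⟨y, hy⟩ : ∃ y, y = strip (Bf (ng t) q i i) 12 (Nat.gcd H (ab (ng t) q i)) := ⟨_, rfl⟩
  rw [killH, ← hy, Bool.and_eq_true, Bool.and_eq_true, Bool.and_eq_true, Nat.blt_eq, beq_iff, beq_iff, beq_iff] at h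
  obtain ⟨⟨⟨h1, h2⟩, h3⟩, h4⟩ := h
  have hr : (Nat.minFac y).Prime := Nat.minFac_prime (by omega)
  have hry := Nat.minFac_dvd y
  obtain ⟨r, hrr⟩ : ∃ r, r = Nat.minFac y := ⟨_, rfl⟩
  rw [← hrr] at hr hry
  refine ⟨r, hr, hry.trans (Nat.dvd_of_mod_eq_zero h2), ?_⟩
  have hs := (ab_dvd (t := t) hq).1 (hry.trans (Nat.dvd_of_mod_eq_zero h3))
  have h5 : orderOf ((sg t q : ℤ) : ZMod r) ∣ i := orderOf_dvd_of_pow_eq_one hs
  have h6 : 1 ≤ orderOf ((sg t q : ℤ) : ZMod r) := Nat.pos_of_dvd_of_pos h5 (by omega)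
  rw [cls]
  by_contra hne
  have h7 : orderOf ((sg t q : ℤ) : ZMod r) < i := lt_of_le_of_ne (Nat.le_of_dvd (by omega) h5) hne
  have h8 : r ∣ ab (ng t) q (orderOf ((sg t q : ℤ) : ZMod r)) := (ab_dvd (t := t) hq).2 (pow_orderOf_eq_one _)
  have h9 := h8.trans (ab_dvd_Bf (neg := ng t) (q := q) h6 h7 h5 i h7.le)
  have h10 := Nat.dvd_gcd hry h9
  rw [h4, Nat.dvd_one] at h10
  exact hr.one_lt.ne' h10

theorem wkill_sound {t : Fam} {N m u w j : ℕ} (hu : 1 ≤ u) (h : wkill N m u = true) (hw : w.Prime) (hwN : w ∣ N)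
    (hj3 : 3 ≤ j) (hjm : j ≤ 2 * m) (hj : cls t u w = j) : False := by
  have h1 := allTo_sound h j (by omega)
  have h3 : Nat.blt j 3 = false := by
    by_contra hcon
    rw [Bool.not_eq_false, Nat.blt_eq] at hcon
    omega
  rw [h3, Bool.or_false, Bool.and_eq_true, beq_iff, beq_iff] at h1
  have h4 : ((sg t u : ℤ) : ZMod w) ^ j = 1 := by
    rw [← hj, cls]
    exact pow_orderOf_eq_one _
  have h5 := (ab_dvd (t := t) hu).2 h4
  have h6 : w ∣ u ^ j - 1 ∨ w ∣ u ^ j + 1 := by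
    rw [ab] at h5
    cases h7 : ng t && Nat.beq (j % 2) 1 with
    | true =>
      rw [h7, cond_true] at h5
      exact Or.inr h5
    | false =>
      rw [h7, cond_false] at h5
      exact Or.inl h5
  rcases h6 with h6 | h6
  · have := Nat.dvd_gcd hwN h6
    rw [h1.1, Nat.dvd_one] at this
    exact hw.one_lt.ne' this
  · have := Nat.dvd_gcd hwN h6
    rw [h1.2, Nat.dvd_one] at this
    exact hw.one_lt.ne' this

/-- the exponent of the size of the isolated numbers -/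
def ex : Fam → ℕ
  | .psl m => m - 2
  | .psu m => m - 2
  | .psp m => m
  | .oodd m => m
  | .oplus m => m - 1
  | .ominus m => m - 1
  | _ => 0

theorem tstE_sound {T : ℕ → ℕ → Bool} {t : Fam} {u i : ℕ} (hr : RkFive t) (hi : top t i)
    (h : tstE T (ex t) u = true) : T (rk t) (ttor t u i) = true := by
  rw [tstE, Bool.and_eq_true, Bool.and_eq_true, Bool.and_eq_true, Bool.and_eq_true, Bool.and_eq_true,
    Bool.and_eq_true] at h
  obtain ⟨⟨⟨⟨h1, h2⟩, ⟨h3, h4⟩, h5⟩, h6⟩, h7⟩ := h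
  have hodd : ∀ {k : ℕ}, k % 2 = 1 → Nat.beq (k % 2) 0 = false := by
    intro k hk
    rw [hk]
    rfl
  have heven : ∀ {k : ℕ}, k % 2 = 0 → Nat.beq (k % 2) 0 = true := by
    intro k hk
    rw [hk]
    rfl
  have hlt : ∀ {a b : ℕ}, b ≤ a → Nat.blt a b = false := by
    intro a b hab
    by_contra hcon
    rw [Bool.not_eq_false, Nat.blt_eq] at hcon
    omega
  cases t with
  | psl m =>
    have hm : 9 ≤ m := hr
    have hi' : 3 ≤ i ∧ (i = m ∨ i + 1 = m) := hi
    obtain ⟨e, rfl⟩ : ∃ e, m = e + 2 := ⟨m - 2, by omega⟩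
    change _ at h7
    rw [show ex (.psl (e + 2)) = e from rfl, hlt (show 7 ≤ e by omega), Bool.false_or, Bool.and_eq_true,
      Bool.and_eq_true] at h7
    rcases hi'.2 with rfl | h8
    · exact h7.1.1
    · rw [show i = e + 1 by omega]
      exact h7.1.2
  | psu m =>
    have hm : 9 ≤ m := hr
    have hi' : 3 ≤ i ∧ (i = m ∨ i + 1 = m) := hi
    obtain ⟨e, rfl⟩ : ∃ e, m = e + 2 := ⟨m - 2, by omega⟩
    rw [show ex (.psu (e + 2)) = e from rfl, hlt (show 7 ≤ e by omega), Bool.false_or, Bool.and_eq_true,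
      Bool.and_eq_true, Bool.and_eq_true] at h7
    rcases hi'.2 with rfl | h8
    · exact h7.2.1
    · rw [show i = e + 1 by omega]
      exact h7.2.2
  | psp m =>
    have hi' : i = 2 * m ∨ (i = m ∧ m % 2 = 1) := hi
    rcases hi' with rfl | ⟨rfl, h8⟩
    · exact h1
    · rw [show ex (.psp i) = i from rfl, hodd h8, Bool.false_or] at h2
      exact h2
  | oodd m =>
    have hi' : i = 2 * m ∨ (i = m ∧ m % 2 = 1) := hi
    rcases hi' with rfl | ⟨rfl, h8⟩
    · exact h1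
    · rw [show ex (.oodd i) = i from rfl, hodd h8, Bool.false_or] at h2
      exact h2
  | oplus m =>
    have hm : 7 ≤ m := hr
    have hi' : (i = m ∧ m % 2 = 1) ∨ i = 2 * (m - 1) ∨ (i = m - 1 ∧ m % 2 = 0) := hi
    obtain ⟨e, rfl⟩ : ∃ e, m = e + 1 := ⟨m - 1, by omega⟩
    rw [show ex (.oplus (e + 1)) = e from rfl, hlt (show 6 ≤ e by omega), Bool.false_or, Bool.and_eq_true] at h6
    rw [Nat.add_sub_cancel] at hi'
    rcases hi' with ⟨rfl, h8⟩ | rfl | ⟨rfl, h8⟩
    · have h9 := h6.2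
      rw [heven (show e % 2 = 0 by omega), cond_true] at h9
      exact h9
    · exact h6.1
    · have h9 := h6.2
      rw [hodd (show i % 2 = 1 by omega), cond_false] at h9
      exact h9
  | ominus m =>
    have hm : 6 ≤ m := hr
    have hi' : i = 2 * m ∨ i = 2 * (m - 1) ∨ (i = m - 1 ∧ m % 2 = 0) := hi
    obtain ⟨e, rfl⟩ : ∃ e, m = e + 1 := ⟨m - 1, by omega⟩
    rw [Nat.add_sub_cancel] at hi'
    rcases hi' with rfl | rfl | ⟨rfl, h8⟩
    · exact h3
    · exact h4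
    · rw [show ex (.ominus (i + 1)) = i from rfl, hodd (show i % 2 = 1 by omega), Bool.false_or] at h5
      exact h5
  | _ => exact hr.elim

theorem npB_sound {v : ℕ} (hv : v.Prime) : npB v = false := by
  have key : ∀ r : ℕ, r.Prime → (Nat.beq (v % r) 0 && !(Nat.beq v r)) = false := by
    intro r hr
    by_contra hcon
    rw [Bool.not_eq_false, Bool.and_eq_true, beq_iff, Bool.not_eq_true'] at hcon
    have h1 := (Nat.prime_dvd_prime_iff_eq hr hv).1 (Nat.dvd_of_mod_eq_zero hcon.1)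
    have h2 := hcon.2
    rw [h1, show Nat.beq v v = true from beq_iff.2 rfl] at h2
    exact Bool.noConfusion h2
  rw [npB, key 2 (by norm_num), key 3 (by norm_num), key 5 (by norm_num), key 7 (by norm_num), key 11 (by norm_num),
    key 13 (by norm_num)]
  rfl

theorem tstV_sound {M N q i : ℕ} {neg : Bool} {f' e v : ℕ} (hv : v.Prime) (hvq : ¬ v ∣ q) (hvM : ¬ v ∣ M)
    (h : tstV M N q i neg f' e v = true) :
    tstE (fun m P => tstP M N q i neg m (v ^ f') P) e (v ^ f') = true := by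
  have hne : ∀ {a : ℕ}, ¬ v ∣ a → Nat.beq (a % v) 0 = false := by
    intro a ha
    by_contra hcon
    rw [Bool.not_eq_false, beq_iff] at hcon
    exact ha (Nat.dvd_of_mod_eq_zero hcon)
  rw [tstV, npB_sound hv, hne hvq, hne hvM, Bool.false_or, Bool.false_or, Bool.false_or, force_eq] at h
  have h1 : (fun m P => force P fun P => tstP M N q i neg m (v ^ f') P) =
      fun m P => tstP M N q i neg m (v ^ f') P := by
    funext m P
    rw [force_eq]
  rw [h1] at h
  exact h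

theorem le_log2_of_pow {a k : ℕ} (h : 2 ^ k ≤ a) : k ≤ Nat.log2 a := by
  have ha : a ≠ 0 := by
    have := Nat.two_pow_pos k
    omega
  exact (Nat.le_log2 ha).2 h

theorem tstF_sound {M N q i : ℕ} {neg : Bool} {f' e v : ℕ} (hf : 1 ≤ f') (he : 5 ≤ e) (hv : v.Prime)
    (hvq : ¬ v ∣ q) (hvM : ¬ v ∣ M) (hB : (v ^ f') ^ e ≤ 8 * M) (h : tstF M N q i neg f' = true) :
    tstE (fun m P => tstP M N q i neg m (v ^ f') P) e (v ^ f') = true := by
  have h1 : f' * e ≤ Nat.log2 (8 * M) := by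
    apply le_log2_of_pow
    calc 2 ^ (f' * e) ≤ v ^ (f' * e) := Nat.pow_le_pow_left hv.two_le _
      _ = (v ^ f') ^ e := pow_mul _ _ _
      _ ≤ 8 * M := hB
  have h2 : e ≤ Nat.log2 (8 * M) / f' := by
    rw [Nat.le_div_iff_mul_le (by omega), mul_comm]
    exact h1
  have h3 := allTo_sound h (e - 5) (by omega)
  rw [force_eq, show e - 5 + 5 = e by omega] at h3
  refine tstV_sound hv hvq hvM (loopV_sound h3 v hv.two_le ?_)
  rw [pow_mul]
  exact hB

theorem szB_iff {C q D d f' : ℕ} : szB C q D d f' = true ↔ q ^ D ≤ C * d * (f' ^ 4 * (q + 1) ^ 3) := by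
  rw [szB, Nat.ble_eq]

theorem chkM_sound {C M N q D d i : ℕ} {neg : Bool} {f' e v : ℕ} (hf : 1 ≤ f') (he : 5 ≤ e) (hv : v.Prime)
    (hvq : ¬ v ∣ q) (hvM : ¬ v ∣ M) (hB : (v ^ f') ^ e ≤ 8 * M)
    (hs : q ^ D ≤ C * d * (f' ^ 4 * (q + 1) ^ 3)) (h : chkM C M N q D d i neg = true) :
    tstE (fun m P => tstP M N q i neg m (v ^ f') P) e (v ^ f') = true := by
  have h1 : f' * e ≤ Nat.log2 (8 * M) := by
    apply le_log2_of_pow
    calc 2 ^ (f' * e) ≤ v ^ (f' * e) := Nat.pow_le_pow_left hv.two_le _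
      _ = (v ^ f') ^ e := pow_mul _ _ _
      _ ≤ 8 * M := hB
  have h2 : f' ≤ Nat.log2 (8 * M) / 5 := by
    rw [Nat.le_div_iff_mul_le (by norm_num)]
    exact (Nat.mul_le_mul_left f' he).trans h1
  have h3 : szB C q D d (Nat.log2 (8 * M) / 5) = true := by
    rw [szB_iff]
    exact hs.trans (Nat.mul_le_mul_left _ (Nat.mul_le_mul_right _ (Nat.pow_le_pow_left h2 4)))
  rw [chkM, force_eq, h3, Bool.not_true, Bool.false_or] at h
  have h4 := allTo_sound h (f' - 1) (by omega)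
  rw [force_eq, show f' - 1 + 1 = f' by omega, szB_iff.2 hs, Bool.not_true, Bool.false_or] at h4
  exact tstF_sound hf he hv hvq hvM hB h4

theorem mem_pairsL {t : Fam} {i j : ℕ} (h : PairOK t i j) : (i, j) ∈ pairsL t := by
  have key : ∀ {a b c d : ℕ}, (i = a ∧ j = b) ∨ (i = c ∧ j = d) → (i, j) ∈ [(a, b), (c, d)] := by
    intro a b c d h
    rcases h with ⟨rfl, rfl⟩ | ⟨rfl, rfl⟩
    · exact List.mem_cons_self
    · exact List.mem_cons_of_mem _ List.mem_cons_self
  cases t with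
  | psl n =>
    have h1 : (i = n ∧ j + 1 = n) ∨ (i + 1 = n ∧ j = n) := h
    exact key (by omega)
  | psu n =>
    have h1 : (i = n ∧ j + 1 = n) ∨ (i + 1 = n ∧ j = n) := h
    exact key (by omega)
  | psp n =>
    obtain ⟨h1, h2⟩ : n % 2 = 1 ∧ ((i = n ∧ j = 2 * n) ∨ (i = 2 * n ∧ j = n)) := h
    rw [pairsL, show Nat.beq (n % 2) 1 = true by rw [h1]; rfl, cond_true]
    exact key h2
  | oodd n =>
    obtain ⟨h1, h2⟩ : n % 2 = 1 ∧ ((i = n ∧ j = 2 * n) ∨ (i = 2 * n ∧ j = n)) := h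
    rw [pairsL, show Nat.beq (n % 2) 1 = true by rw [h1]; rfl, cond_true]
    exact key h2
  | oplus n =>
    have h1 : (n % 2 = 1 ∧ ((i = n ∧ j = 2 * (n - 1)) ∨ (i = 2 * (n - 1) ∧ j = n))) ∨
      (n % 2 = 0 ∧ ((i = n - 1 ∧ j = 2 * (n - 1)) ∨ (i = 2 * (n - 1) ∧ j = n - 1))) := h
    rcases h1 with ⟨h1, h2⟩ | ⟨h1, h2⟩
    · rw [pairsL, show Nat.beq (n % 2) 1 = true by rw [h1]; rfl, cond_true]
      exact key h2
    · rw [pairsL, show Nat.beq (n % 2) 1 = false by rw [h1]; rfl, cond_false]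
      exact key h2
  | ominus n => exact key h
  | _ => exact h.elim

theorem chkT_sound {C X : ℕ} {t : Fam} {q i j : ℕ} (hX : Nat.log2 q * (dimL t - 3) ≤ X) (hp : PairOK t i j)
    (h : chkT C X t q = true) : chkM C (ttor t q i) (ttor t q j) q (dimL t) (dgL t q) i (ng t) = true := by
  have h1 : Nat.blt X (Nat.log2 q * (dimL t - 3)) = false := by
    by_contra hcon
    rw [Bool.not_eq_false, Nat.blt_eq] at hcon
    omega
  rw [chkT, h1, Bool.false_or, List.all_eq_true] at h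
  have h2 := h (i, j) (mem_pairsL hp)
  rw [force_eq, force_eq, force_eq, force_eq, force_eq] at h2
  exact h2

theorem chkT_oodd {C X n q : ℕ} : chkT C X (.oodd n) q = chkT C X (.psp n) q := rfl

theorem chkN_sound {C X : ℕ} {t : Fam} {q : ℕ} (h5 : Five t) (h : chkN C X q (rk t) = true) :
    chkT C X t q = true := by
  rw [chkN, Bool.and_eq_true, Bool.and_eq_true, Bool.and_eq_true] at h
  obtain ⟨⟨h1, h2⟩, h3, h4⟩ := h
  have hlt : ∀ {a b : ℕ}, b ≤ a → Nat.blt a b = false := by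
    intro a b hab
    by_contra hcon
    rw [Bool.not_eq_false, Nat.blt_eq] at hcon
    omega
  cases t with
  | psl n =>
    have hn : 9 ≤ n := h5
    rw [show rk (.psl n) = n from rfl, hlt hn, Bool.false_or, Bool.and_eq_true] at h1
    exact h1.1
  | psu n =>
    have hn : 9 ≤ n := h5
    rw [show rk (.psu n) = n from rfl, hlt hn, Bool.false_or, Bool.and_eq_true] at h1
    exact h1.2
  | psp n => exact h2
  | oodd n => exact chkT_oodd.trans h2
  | oplus n => exact h3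
  | ominus n => exact h4
  | _ => exact h5.elim

theorem ppB_sound {p f : ℕ} (hp : p.Prime) (hf : f ≤ 13) : ppB (p ^ f) = true := by
  have key : ∀ r : ℕ, r.Prime → (!(Nat.beq (p ^ f % r) 0) || Nat.beq (r ^ 13 % p ^ f) 0) = true := by
    intro r hr
    cases h : Nat.beq (p ^ f % r) 0 with
    | false => rfl
    | true =>
      rw [Bool.not_true, Bool.false_or, beq_iff]
      rw [beq_iff] at h
      have h1 := (Nat.prime_dvd_prime_iff_eq hr hp).1 (hr.dvd_of_dvd_pow (Nat.dvd_of_mod_eq_zero h))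
      rw [h1]
      exact Nat.mod_eq_zero_of_dvd (pow_dvd_pow p hf)
  rw [ppB, key 3 (by norm_num), key 5 (by norm_num), key 7 (by norm_num), key 11 (by norm_num), key 13 (by norm_num),
    key 17 (by norm_num), key 19 (by norm_num), key 23 (by norm_num)]
  rfl

theorem chkQ_sound {C X : ℕ} {t : Fam} {q : ℕ} (hpp : ppB q = true) (h7 : 7 ≤ rk t) (hk : rk t - 7 < X / Nat.log2 q)
    (h : chkQ C X q = true) : chkN C X q (rk t) = true := by
  rw [chkQ, hpp, Bool.not_true, Bool.false_or] at h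
  have h1 := allTo_sound h (rk t - 7) hk
  rw [force_eq, show rk t - 7 + 7 = rk t by omega] at h1
  exact h1

theorem chkR_sound {C X a b k : ℕ} (h : chkR C X a b = true) (hk : k < b) : chkQ C X (2 * k + a) = true := by
  have h1 := allTo_sound h k hk
  rw [force_eq] at h1
  exact h1

end Cfsg.Agent.R2.Spec.FIN
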