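import Cfsg.Agent.R2.Spec.FIN.Chk3

/-! # S3435, packet FIN, small ranks, `S = PSp_6(u)`, `Omega_7(u)`, `POmega^+_8(u)`: the search (helper7) -/

set_option autoImplicit false

namespace Cfsg.Agent.R2.Spec.FIN

theorem oplus6_t0 : chkR3 (2 ^ 10) (.oplus 6) 3 500 = true := by decide +kernel
theorem oplus6_t1 : chkR3 (2 ^ 10) (.oplus 6) 1003 3595 = true := by decide +kernel
theorem oplus6_t2 : chkR3 (2 ^ 10) (.oplus 6) 8193 4096 = true := by decide +kernel
theorem oplus6_t3 : chkR3 (2 ^ 10) (.oplus 6) 16385 8192 = true := by decide +kernel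
theorem oplus6_t4 : chkR3 (2 ^ 10) (.oplus 6) 32769 16384 = true := by decide +kernel

theorem oplus6_three {q : ℕ} (h3 : 3 ≤ q) (ho : q % 2 = 1) (hq : q < 2 ^ 16) : chkT3 (2 ^ 10) (.oplus 6) q = true := by
  rw [show (2 : ℕ) ^ 16 = 65536 by norm_num] at hq
  by_cases h0 : q < 1003
  · exact odd_range3 oplus6_t0 (by norm_num) ho (by omega) (by omega)
  by_cases h1 : q < 8193
  · exact odd_range3 oplus6_t1 (by norm_num) ho (by omega) (by omega)
  by_cases h2 : q < 16385
  · exact odd_range3 oplus6_t2 (by norm_num) ho (by omega) (by omega)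
  by_cases h3 : q < 32769
  · exact odd_range3 oplus6_t3 (by norm_num) ho (by omega) (by omega)
  · exact odd_range3 oplus6_t4 (by norm_num) ho (by omega) (by omega)

end Cfsg.Agent.R2.Spec.FIN
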