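import Cfsg.Agent.R2.Spec.FIN.Small
import Cfsg.Agent.R2.Spec.FIN.T3a
import Cfsg.Agent.R2.Spec.FIN.T3b
import Cfsg.Agent.R2.Spec.FIN.T3c
import Cfsg.Agent.R2.Spec.FIN.T3d
import Cfsg.Agent.R2.Spec.FIN.T3e

/-!
# S3435, packet FIN, small ranks (helper7)

* `fin_three` : `SmallD t` (`psp`, `oodd` 5, `oplus`, `ominus` 5, 6), `Duel`, `S = PSp_6(u)`, `Omega_7(u)`,
  `POmega^+_8(u)`, `SizeB (2 ^ 10)` : `False`.
-/

set_option autoImplicit false

namespace Cfsg.Agent.R2.Spec.FIN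

open Cfsg.Agent.H426.LieFam Cfsg.Agent.R2.Spec Cfsg.Agent.R2.Spec.P1 Cfsg.Agent.R2.Spec.E Cfsg.Agent.R2.Spec.F1

universe u

/-- **Ranks 5, 6 of the symplectic and orthogonal families, `S` of rank three.** -/
theorem fin_three {t : Fam} {p f i j : ℕ} {t' : Fam} {v f' i' j' w H : ℕ} {S : Type u} [Group S] [Finite S]
    (ht : SmallD t) (hD : Duel t p f i j t' v f' i' j' w H S) (hr : S3 t') (hs : SizeB (2 ^ 10) t p f f') :
    False := by
  have hm := RKS.le_of_mem hD.memj'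
  have key : ∀ {t : Fam}, Duel t p f i j t' v f' i' j' w H S → SizeB (2 ^ 10) t p f f' → 5 ≤ rk t → dimL t = 5 →
      (∀ q, dgL t q ≤ 1) → (∀ q, 3 ≤ q → q % 2 = 1 → q < 2 ^ 16 → chkT3 (2 ^ 10) t q = true) → False := by
    intro t hD hs h1 h2 h3 h4
    refine three_gen (C := 2 ^ 10) (L := 16) h1 (by omega) h3 hD hr hs (by norm_num) (by norm_num) ?_ h4 hm
    rw [h2]
    norm_num
  cases t with
  | psp n =>
    obtain rfl : n = 5 := ht
    exact key hD hs (by change 5 ≤ 5; norm_num) rfl (fun q => le_refl 1) fun q => psp5_three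
  | oodd n =>
    obtain rfl : n = 5 := ht
    exact key hD hs (by change 5 ≤ 5; norm_num) rfl (fun q => le_refl 1)
      fun q h1 h2 h3 => chkT3_oodd.trans (psp5_three h1 h2 h3)
  | oplus n =>
    rcases (show n = 5 ∨ n = 6 from ht) with rfl | rfl
    · exact key hD hs (by change 5 ≤ 5; norm_num) rfl (fun q => le_refl 1) fun q => oplus5_three
    · exact key hD hs (by change 5 ≤ 6; norm_num) rfl (fun q => le_refl 1) fun q => oplus6_three
  | ominus n =>
    rcases (show n = 5 ∨ n = 6 from ht) with rfl | rfl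
    · exact key hD hs (by change 5 ≤ 5; norm_num) rfl (fun q => le_refl 1) fun q => ominus5_three
    · exact three_gen (C := 2 ^ 10) (L := 10) (by change 5 ≤ 6; norm_num) (by change 5 ≤ 6; norm_num)
        (fun q => le_refl 1) hD hr hs (by norm_num) (by norm_num)
        (by change (64 * 2 ^ 10 * 1) * (6 * 10 + 6 + 3) ^ 4 < (27 * 3 ^ 4) * 2 ^ (10 * (6 - 3)); norm_num)
        (fun q => ominus6_three) hm
  | _ => exact ht.elim

end Cfsg.Agent.R2.Spec.FIN
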